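import Mathlib
import Cfsg.Agent.Lib.SectRank.Basic

/-!
Counting tools for elementary abelian `2`-sections: splitting along a normal subgroup, the bound
for a quotient generated by one element, and the sections inside a small elementary subgroup.
-/

set_option autoImplicit false

namespace Cfsg.Agent.Lib.HaradaEight

open Subgroup

universe u

variable {G : Type u} [Group G] [Finite G]

open Cfsg.Agent.Lib.SectRank

/-- Splitting a section along `M`, normalised by `H`. -/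
theorem section_split {H N : Subgroup G} (h : IsElemSection 2 N H) (M : Subgroup G)
    (hM : ∀ g ∈ H, ∀ x ∈ M, g * x * g⁻¹ ∈ M) :
    ∃ k : ℕ, N.relIndex H = k * N.relIndex (M ⊓ H) ∧ k ∣ M.relIndex H ∧
      (M.relIndex H ≤ k → ∀ g ∈ H, ∀ x ∈ H, x⁻¹ * (g⁻¹ * x * g) ∈ M) := by
  haveI hn : (N.subgroupOf H).Normal := ⟨fun n hn a => mem_subgroupOf.mpr (by
    simpa using h.conj_mem a.2 (mem_subgroupOf.mp hn))⟩
  haveI hMn : (M.subgroupOf H).Normal := ⟨fun n hn a => mem_subgroupOf.mpr (by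
    simpa using hM a a.2 _ (mem_subgroupOf.mp hn))⟩
  set K := N.subgroupOf H ⊔ M.subgroupOf H with hK
  have hD : (N.subgroupOf H).relIndex (M.subgroupOf H) = N.relIndex (M ⊓ H) := by
    rw [← Subgroup.relIndex_map_map_of_injective _ _ H.subtype_injective,
      subgroupOf_map_subtype, subgroupOf_map_subtype, ← Subgroup.inf_relIndex_right,
      ← Subgroup.inf_relIndex_right N (M ⊓ H)]
    congr 1
    ext x
    simp only [mem_inf]
    tauto
  refine ⟨K.index, ?_, index_dvd_of_le le_sup_right, fun hle g hg x hx => ?_⟩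
  · show (N.subgroupOf H).index = _
    rw [← relIndex_mul_index (le_sup_left : N.subgroupOf H ≤ K), hK,
      sup_comm (N.subgroupOf H) (M.subgroupOf H), relIndex_sup_right, hD, mul_comm]
  · have heq : M.subgroupOf H = K := by
      have hmul := relIndex_mul_index (le_sup_right : M.subgroupOf H ≤ K)
      have hpos : 0 < K.index := Nat.pos_of_ne_zero index_ne_zero_of_finite
      have hpos2 : 0 < (M.subgroupOf H).relIndex K := Nat.pos_of_ne_zero index_ne_zero_of_finite
      have h1 : (M.subgroupOf H).relIndex K * K.index ≤ 1 * K.index := by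
        rw [hmul, one_mul]; exact hle
      have := Nat.le_of_mul_le_mul_right h1 hpos
      exact le_antisymm le_sup_right (relIndex_eq_one.1 (by omega))
    have hmem : x⁻¹ * (g⁻¹ * x * g) ∈ N := by
      have := h.comm x⁻¹ (inv_mem hx) g⁻¹ (inv_mem hg)
      simpa [mul_assoc] using this
    have hin : (⟨x⁻¹ * (g⁻¹ * x * g), h.le hmem⟩ : H) ∈ M.subgroupOf H :=
      heq ▸ mem_sup_left (mem_subgroupOf.2 hmem)
    exact mem_subgroupOf.1 hin

/-- A cyclic quotient contributes at most a factor two. -/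
theorem section_cyclic {H N : Subgroup G} (h : IsElemSection 2 N H) (M : Subgroup G)
    (hM : ∀ g ∈ H, ∀ x ∈ M, g * x * g⁻¹ ∈ M) (c : G) (hcH : c ∈ H)
    (hgen : ∀ x ∈ H, ∃ j : ℤ, (c ^ j)⁻¹ * x ∈ M) :
    N.relIndex H ≤ 2 * N.relIndex (M ⊓ H) := by
  -- enlarge `M` by the squares of `c`
  haveI hn : (N.subgroupOf H).Normal := ⟨fun n hn a => mem_subgroupOf.mpr (by
    simpa using h.conj_mem a.2 (mem_subgroupOf.mp hn))⟩
  haveI hMn : (M.subgroupOf H).Normal := ⟨fun n hn a => mem_subgroupOf.mpr (by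
    simpa using hM a a.2 _ (mem_subgroupOf.mp hn))⟩
  set K := N.subgroupOf H ⊔ M.subgroupOf H with hK
  have hD : (N.subgroupOf H).relIndex (M.subgroupOf H) = N.relIndex (M ⊓ H) := by
    rw [← Subgroup.relIndex_map_map_of_injective _ _ H.subtype_injective,
      subgroupOf_map_subtype, subgroupOf_map_subtype, ← Subgroup.inf_relIndex_right,
      ← Subgroup.inf_relIndex_right N (M ⊓ H)]
    congr 1
    ext x
    simp only [mem_inf]
    tauto
  have heq : N.relIndex H = K.index * N.relIndex (M ⊓ H) := by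
    show (N.subgroupOf H).index = _
    rw [← relIndex_mul_index (le_sup_left : N.subgroupOf H ≤ K), hK,
      sup_comm (N.subgroupOf H) (M.subgroupOf H), relIndex_sup_right, hD, mul_comm]
  rw [heq]
  refine Nat.mul_le_mul_right _ ?_
  haveI : K.Normal := inferInstance
  rw [index_eq_card]
  refine le_trans (Nat.card_le_card_of_surjective
    (fun b : Bool => ((if b then (⟨c, hcH⟩ : H) else 1 : H) : H ⧸ K)) ?_) (by simp)
  intro q
  induction q using QuotientGroup.induction_on with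
  | _ x =>
  obtain ⟨j, hj⟩ := hgen x x.2
  have hc2 : ((⟨c, hcH⟩ : H) : H ⧸ K) * ((⟨c, hcH⟩ : H) : H ⧸ K) = 1 := by
    rw [← QuotientGroup.mk_mul, QuotientGroup.eq_one_iff]
    exact mem_sup_left (mem_subgroupOf.2 (by simpa [pow_two] using h.pow c hcH))
  have hx : ((x : H) : H ⧸ K) = ((⟨c, hcH⟩ : H) : H ⧸ K) ^ j := by
    rw [← QuotientGroup.mk_zpow, eq_comm, QuotientGroup.eq]
    exact mem_sup_right (mem_subgroupOf.2 (by simpa using hj))
  rcases Int.even_or_odd j with ⟨i, rfl⟩ | ⟨i, rfl⟩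
  · refine ⟨false, ?_⟩
    simp only [Bool.false_eq_true, if_false]
    rw [hx, ← two_mul, zpow_mul, zpow_two, hc2, one_zpow, QuotientGroup.mk_one]
  · refine ⟨true, ?_⟩
    simp only [if_true]
    rw [hx, zpow_add_one, zpow_mul, zpow_two, hc2, one_zpow, one_mul]

/-- `|H ∩ B : N ∩ B| * |N ∩ B ∩ H| = |H ∩ B|`. -/
theorem relIndex_mul_card (N B : Subgroup G) :
    Nat.card (N ⊓ B : Subgroup G) * N.relIndex B = Nat.card B := by
  rw [← Subgroup.inf_relIndex_right, ← Subgroup.relIndex_bot_left, ← Subgroup.relIndex_bot_left]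
  exact Subgroup.relIndex_mul_relIndex ⊥ (N ⊓ B) B bot_le inf_le_right

theorem relIndex_le_card (N B : Subgroup G) : N.relIndex B ≤ Nat.card B := by
  rw [← relIndex_mul_card N B]
  exact Nat.le_mul_of_pos_left _ Nat.card_pos

/-- The full value forces `B ≤ H` and `N ∩ B` trivial. -/
theorem of_card_le_relIndex {N H B : Subgroup G} (h : Nat.card B ≤ N.relIndex (B ⊓ H)) :
    B ≤ H ∧ ∀ x ∈ B, x ∈ N → x = 1 := by
  have h1 := relIndex_le_card N (B ⊓ H)
  have h2 : B ⊓ H = B := eq_of_le_of_card_ge inf_le_left (h.trans h1)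
  refine ⟨inf_eq_left.1 h2, fun x hxB hxN => ?_⟩
  rw [h2] at h
  have h3 := relIndex_mul_card N B
  have hpos : 0 < N.relIndex B := Nat.pos_of_ne_zero index_ne_zero_of_finite
  have h4 : Nat.card (N ⊓ B : Subgroup G) ≤ 1 := by
    refine Nat.le_of_mul_le_mul_right ?_ hpos
    rw [h3, one_mul]; exact h
  have h5 := (eq_bot_iff_card _).2 (le_antisymm h4 Nat.card_pos)
  exact mem_bot.1 (h5 ▸ (⟨hxN, hxB⟩ : x ∈ N ⊓ B))

/-- A nontrivial element of `N` halves the bound; if the halved bound is attained it is the only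
one and `B ≤ H`. -/
theorem of_mem_inf {N H B : Subgroup G} {w : G} (hwB : w ∈ B) (hwH : w ∈ H) (hwN : w ∈ N)
    (hw : w ≠ 1) :
    2 * N.relIndex (B ⊓ H) ≤ Nat.card B ∧ (Nat.card B ≤ 2 * N.relIndex (B ⊓ H) →
      B ≤ H ∧ ∀ x ∈ B, x ∈ N → x = 1 ∨ x = w) := by
  have hmem : w ∈ N ⊓ (B ⊓ H) := ⟨hwN, hwB, hwH⟩
  have h2 : 2 ≤ Nat.card (N ⊓ (B ⊓ H) : Subgroup G) :=
    (one_lt_card_iff_ne_bot _).2 fun hbot => hw (mem_bot.1 (hbot ▸ hmem))
  have h3 := relIndex_mul_card N (B ⊓ H)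
  have hle : Nat.card (B ⊓ H : Subgroup G) ≤ Nat.card B := card_le_of_le inf_le_left
  refine ⟨(Nat.mul_le_mul_right _ h2).trans (h3.le.trans hle), fun hge => ?_⟩
  have h5 := hge.trans ((Nat.mul_le_mul_right _ h2).trans h3.le)
  have heq : B ⊓ H = B := eq_of_le_of_card_ge inf_le_left h5
  have hpos : 0 < N.relIndex (B ⊓ H) := Nat.pos_of_ne_zero index_ne_zero_of_finite
  have h4 : Nat.card (N ⊓ (B ⊓ H) : Subgroup G) ≤ 2 :=
    Nat.le_of_mul_le_mul_right (by rw [h3]; exact hle.trans hge) hpos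
  refine ⟨inf_eq_left.1 heq, fun x hxB hxN => ?_⟩
  by_contra hc
  push Not at hc
  have hsub : ({1, w, x} : Set G) ⊆ ((N ⊓ (B ⊓ H) : Subgroup G) : Set G) := by
    rintro y (rfl | rfl | rfl)
    exacts [one_mem _, hmem, ⟨hxN, hxB, inf_eq_left.1 heq hxB⟩]
  have hc3 : ({1, w, x} : Set G).ncard = 3 :=
    Set.ncard_eq_three.2 ⟨1, w, x, Ne.symm hw, Ne.symm hc.1, Ne.symm hc.2, rfl⟩
  have h6 := Set.ncard_le_ncard hsub (Set.toFinite _)
  rw [hc3, ← Nat.card_coe_set_eq] at h6
  exact absurd (h6.trans h4) (by omega)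

theorem pow_two_dvd_le {n c b : ℕ} (h : n ∣ 2 ^ c) (hb : 2 ^ b < n) : 2 ^ (b + 1) ≤ n := by
  obtain ⟨k, -, rfl⟩ := (Nat.dvd_prime_pow Nat.prime_two).1 h
  exact Nat.pow_le_pow_right two_pos ((Nat.pow_lt_pow_iff_right (by norm_num)).1 hb)

theorem relIndex_pow_two (hG : IsPGroup 2 G) (N B : Subgroup G) : ∃ c, N.relIndex B ∣ 2 ^ c := by
  haveI : Fact (Nat.Prime 2) := ⟨Nat.prime_two⟩
  obtain ⟨c, hc⟩ := (hG.to_subgroup B).index (N.subgroupOf B)
  exact ⟨c, hc.dvd⟩

end Cfsg.Agent.Lib.HaradaEight
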