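import Mathlib
import Cfsg.Agent.Lib.HaradaEight.Counting
import Cfsg.Agent.Lib.PLemmas.NormalSeries

/-!
A normal elementary abelian subgroup `U` of order eight of a `2`-group: the flag fixed by the group
and the bound on the sections of `G / C_G(U)`.
-/

set_option autoImplicit false

namespace Cfsg.Agent.Lib.HaradaEight

open Subgroup
open scoped commutatorElement

universe u

variable {G : Type u} [Group G] [Finite G]

/-- `U` is a normal elementary abelian subgroup of order eight of a `2`-group. -/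
structure NormalEight (U : Subgroup G) : Prop where
  pg : IsPGroup 2 G
  normal : U.Normal
  sq : ∀ u ∈ U, u * u = 1
  card : Nat.card U = 8

variable {U : Subgroup G}

theorem NormalEight.comm (hU : NormalEight U) {u v : G} (hu : u ∈ U) (hv : v ∈ U) :
    u * v = v * u := by
  have h := hU.sq _ (mul_mem hu hv)
  calc u * v = u⁻¹ * v⁻¹ := by
        rw [inv_eq_of_mul_eq_one_left (hU.sq u hu), inv_eq_of_mul_eq_one_left (hU.sq v hv)]
    _ = (v * u)⁻¹ := (mul_inv_rev v u).symm
    _ = v * u := inv_eq_of_mul_eq_one_left (hU.sq _ (mul_mem hv hu))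

theorem NormalEight.le_cent (hU : NormalEight U) : U ≤ centralizer (U : Set G) :=
  fun _ hu => mem_centralizer_iff.2 fun _ hv => hU.comm hv hu

theorem NormalEight.cent_normal (hU : NormalEight U) : (centralizer (U : Set G)).Normal := by
  haveI := hU.normal
  infer_instance

theorem NormalEight.conj_mem (hU : NormalEight U) {u : G} (hu : u ∈ U) (g : G) :
    g⁻¹ * u * g ∈ U := by
  simpa using hU.normal.conj_mem u hu g⁻¹

/-- A flag fixed by `G`. -/
structure Flag (U : Subgroup G) where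
  z : G
  q : G
  e : G
  P : Subgroup G
  P_normal : P.Normal
  P_le : P ≤ U
  P_card : Nat.card P = 4
  z_mem : z ∈ P
  q_mem : q ∈ P
  z_ne : z ≠ 1
  z_central : ∀ g : G, z * g = g * z
  P_cases : ∀ x ∈ P, x = 1 ∨ x = z ∨ x = q ∨ x = q * z
  q_conj : ∀ g : G, g⁻¹ * q * g = q ∨ g⁻¹ * q * g = q * z
  q_notMem : q ≠ 1 ∧ q ≠ z
  e_mem : e ∈ U
  e_notMem : e ∉ P

theorem NormalEight.exists_flag (hU : NormalEight U) : Nonempty (Flag U) := by
  haveI : Fact (Nat.Prime 2) := ⟨Nat.prime_two⟩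
  haveI := hU.normal
  have hbot : (⊥ : Subgroup G) < U := bot_lt_iff_ne_bot.2 fun h => by
    have := hU.card; rw [h, card_bot] at this; omega
  obtain ⟨K₁, hK₁n, -, hK₁U, hK₁c, hK₁z⟩ := PLemmas.exists_normal_step hU.pg hbot
  rw [card_bot, mul_one] at hK₁c
  haveI := hK₁n
  have hlt₁ : K₁ < U := lt_of_le_of_ne hK₁U fun h => by
    have := hU.card; rw [← h, hK₁c] at this; omega
  obtain ⟨K₂, hK₂n, hK₁₂, hK₂U, hK₂c, hK₂z⟩ := PLemmas.exists_normal_step hU.pg hlt₁
  rw [hK₁c] at hK₂c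
  obtain ⟨z, hz, hz1⟩ : ∃ z ∈ K₁, z ≠ 1 := by
    by_contra hc
    push Not at hc
    rw [(eq_bot_iff_forall K₁).2 hc, card_bot] at hK₁c
    omega
  have hK₁eq : ∀ x ∈ K₁, x = 1 ∨ x = z := by
    intro x hx
    by_contra hc
    push Not at hc
    have hsub : ({1, z, x} : Set G) ⊆ (K₁ : Set G) := by
      rintro y (rfl | rfl | rfl)
      exacts [one_mem _, hz, hx]
    have h3 : ({1, z, x} : Set G).ncard = 3 :=
      Set.ncard_eq_three.2 ⟨1, z, x, Ne.symm hz1, Ne.symm hc.1, Ne.symm hc.2, rfl⟩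
    have h4 := Set.ncard_le_ncard hsub (Set.toFinite _)
    rw [h3, ← Nat.card_coe_set_eq] at h4
    exact absurd (h4.trans hK₁c.le) (by omega)
  obtain ⟨q, hq, hqn⟩ : ∃ q ∈ K₂, q ∉ K₁ := by
    by_contra hc
    push Not at hc
    have := card_le_of_le (show K₂ ≤ K₁ from hc)
    omega
  obtain ⟨e, he, hen⟩ : ∃ e ∈ U, e ∉ K₂ := by
    by_contra hc
    push Not at hc
    have := card_le_of_le (show U ≤ K₂ from hc)
    rw [hU.card] at this
    omega
  have hzc : ∀ g : G, z * g = g * z := by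
    intro g
    have h := hK₁z g z hz
    rw [mem_bot, commutatorElement_eq_one_iff_mul_comm] at h
    exact h.symm
  have hq1 : q ≠ 1 ∧ q ≠ z := ⟨fun h => hqn (h ▸ one_mem _), fun h => hqn (h ▸ hz)⟩
  have hsub : ({1, z, q, q * z} : Set G) ⊆ (K₂ : Set G) := by
    rintro y (rfl | rfl | rfl | rfl)
    exacts [one_mem _, hK₁₂ hz, hq, mul_mem hq (hK₁₂ hz)]
  have h1 : q * z ≠ 1 := fun h => hqn (by
    rw [mul_eq_one_iff_eq_inv] at h; rw [h]; exact inv_mem hz)
  have h2 : q * z ≠ z := fun h => hq1.1 (mul_eq_right.1 h)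
  have h3 : q * z ≠ q := fun h => hz1 (mul_eq_left.1 h)
  have hc4 : ({1, z, q, q * z} : Set G).ncard = 4 := by
    rw [Set.ncard_insert_of_notMem (by simp [Ne.symm hz1, Ne.symm hq1.1, Ne.symm h1]),
      Set.ncard_insert_of_notMem (by simp [Ne.symm hq1.2, Ne.symm h2]),
      Set.ncard_insert_of_notMem (by simp [hz1]), Set.ncard_singleton]
  have hPeq : ({1, z, q, q * z} : Set G) = (K₂ : Set G) :=
    Set.eq_of_subset_of_ncard_le hsub (by
      rw [hc4, ← Nat.card_coe_set_eq]; exact hK₂c.le) (Set.toFinite _)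
  refine ⟨⟨z, q, e, K₂, hK₂n, hK₂U, hK₂c, hK₁₂ hz, hq, hz1, hzc, fun x hx => ?_, fun g => ?_,
    hq1, he, hen⟩⟩
  · have : x ∈ ({1, z, q, q * z} : Set G) := hPeq ▸ hx
    simpa using this
  · have h := hK₂z g⁻¹ q hq
    rw [commutatorElement_def] at h
    rcases hK₁eq _ h with h' | h'
    · left
      calc g⁻¹ * q * g = (g⁻¹ * q * g⁻¹⁻¹ * q⁻¹) * q := by group
        _ = q := by rw [h', one_mul]
    · right
      calc g⁻¹ * q * g = (g⁻¹ * q * g⁻¹⁻¹ * q⁻¹) * q := by group
        _ = q * z := by rw [h', hzc q]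

namespace Flag

variable (f : Flag U)

theorem coset (hU : NormalEight U) {u : G} (hu : u ∈ U) : u ∈ f.P ∨ f.e * u ∈ f.P := by
  by_cases h : u ∈ f.P
  · exact Or.inl h
  right
  have hidx : (f.P.subgroupOf U).index = 2 := by
    have h1 := relIndex_mul_card f.P U
    rw [inf_eq_left.2 f.P_le, f.P_card, hU.card] at h1
    show f.P.relIndex U = 2
    omega
  exact (mul_mem_iff_of_index_two hidx (a := ⟨f.e, f.e_mem⟩) (b := ⟨u, hu⟩)).2
    ⟨fun h' => absurd h' f.e_notMem, fun h' => absurd h' h⟩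

theorem e_conj (hU : NormalEight U) (g : G) : f.e * (g⁻¹ * f.e * g) ∈ f.P := by
  refine (f.coset hU (hU.conj_mem f.e_mem g)).resolve_left fun h => f.e_notMem ?_
  have := f.P_normal.conj_mem _ h g
  simpa [mul_assoc] using this

theorem mem_cent (hU : NormalEight U) {g : G} (hq : g⁻¹ * f.q * g = f.q)
    (he : g⁻¹ * f.e * g = f.e) : g ∈ centralizer (U : Set G) := by
  have hfix : ∀ u ∈ f.P, g⁻¹ * u * g = u := by
    intro u hu
    rcases f.P_cases u hu with rfl | rfl | rfl | rfl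
    · group
    · rw [mul_assoc, f.z_central g]; group
    · exact hq
    · calc g⁻¹ * (f.q * f.z) * g = (g⁻¹ * f.q * g) * (g⁻¹ * (f.z * g)) := by group
        _ = f.q * f.z := by rw [hq, f.z_central g]; group
  refine mem_centralizer_iff.2 fun u hu => ?_
  have hall : g⁻¹ * u * g = u := by
    rcases f.coset hU hu with h | h
    · exact hfix u h
    · have h' := hfix _ h
      calc g⁻¹ * u * g = (g⁻¹ * f.e * g)⁻¹ * (g⁻¹ * (f.e * u) * g) := by group
        _ = f.e⁻¹ * (f.e * u) := by rw [he, h']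
        _ = u := by group
  rw [← eq_inv_mul_iff_mul_eq.mp (show g⁻¹ * (u * g) = u by rw [← mul_assoc]; exact hall).symm]

/-- The action of `g` on `q` and `e`. -/
def key (g : G) : G × G := (f.q * (g⁻¹ * f.q * g), f.e * (g⁻¹ * f.e * g))

theorem key_eq (hU : NormalEight U) {g h : G} (hk : f.key g = f.key h) :
    g * h⁻¹ ∈ centralizer (U : Set G) := by
  simp only [key, Prod.mk.injEq, mul_right_inj] at hk
  refine f.mem_cent hU ?_ ?_
  · calc (g * h⁻¹)⁻¹ * f.q * (g * h⁻¹) = h * (g⁻¹ * f.q * g) * h⁻¹ := by group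
      _ = f.q := by rw [hk.1]; group
  · calc (g * h⁻¹)⁻¹ * f.e * (g * h⁻¹) = h * (g⁻¹ * f.e * g) * h⁻¹ := by group
      _ = f.e := by rw [hk.2]; group

theorem key_mem (hU : NormalEight U) (g : G) :
    f.key g ∈ ({1, f.z} : Set G) ×ˢ ((f.P : Subgroup G) : Set G) := by
  refine ⟨?_, f.e_conj hU g⟩
  simp only [key, Set.mem_insert_iff, Set.mem_singleton_iff]
  have hqq := hU.sq _ (f.P_le f.q_mem)
  rcases f.q_conj g with h | h
  · exact Or.inl (by rw [h, hqq])
  · exact Or.inr (by rw [h, ← mul_assoc, hqq, one_mul])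

end Flag

/-- A section of `G` is at most four times its part inside `C_G(U)`. -/
theorem NormalEight.top_bound (hU : NormalEight U) {H N : Subgroup G}
    (h : Cfsg.Agent.Lib.SectRank.IsElemSection 2 N H) :
    ∃ k : ℕ, k ≤ 4 ∧ N.relIndex H = k * N.relIndex (centralizer (U : Set G) ⊓ H) ∧
      k ∣ (centralizer (U : Set G)).relIndex H ∧ (centralizer (U : Set G)).relIndex H ≤ 8 := by
  classical
  obtain ⟨f⟩ := hU.exists_flag
  haveI := hU.cent_normal
  set C := centralizer (U : Set G) with hC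
  obtain ⟨k, hk, hkd, hab⟩ := section_split h C fun g _ x hx => hU.cent_normal.conj_mem x hx g
  have hle8 : C.relIndex H ≤ 8 := by
    show (C.subgroupOf H).index ≤ 8
    rw [index_eq_card]
    refine (Nat.card_le_card_of_injective
      (fun x : H ⧸ C.subgroupOf H =>
        (⟨f.key (((Quotient.out x : H) : G))⁻¹, f.key_mem hU _⟩ :
          (({1, f.z} : Set G) ×ˢ ((f.P : Subgroup G) : Set G) : Set (G × G)))) ?_).trans ?_
    · intro x y hxy
      have := f.key_eq hU (congrArg Subtype.val hxy)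
      rw [inv_inv] at this
      rw [← Quotient.out_eq x, ← Quotient.out_eq y]
      exact QuotientGroup.eq.2 (mem_subgroupOf.2 this)
    · rw [Nat.card_coe_set_eq, Set.ncard_prod]
      have h1 : ({1, f.z} : Set G).ncard ≤ 2 := (Set.ncard_insert_le _ _).trans (by simp)
      have h2 : ((f.P : Subgroup G) : Set G).ncard = 4 := by
        rw [← Nat.card_coe_set_eq]; exact f.P_card
      rw [h2]
      omega
  refine ⟨k, ?_, hk, hkd, hle8⟩
  by_contra hk4
  have hpos : 0 < C.relIndex H := Nat.pos_of_ne_zero index_ne_zero_of_finite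
  have hk8 : 8 ≤ k := by
    obtain ⟨c, hc⟩ := relIndex_pow_two hU.pg C H
    exact pow_two_dvd_le (b := 2) (hkd.trans hc) (by omega)
  have hkC : k = C.relIndex H := le_antisymm (Nat.le_of_dvd hpos hkd) (hle8.trans hk8)
  have hcomm := hab hkC.ge
  -- the key is surjective on the cosets
  have hsurj : ∀ p ∈ ({1, f.z} : Set G) ×ˢ ((f.P : Subgroup G) : Set G),
      ∃ g ∈ H, f.key g = p := by
    have hsub : f.key '' (H : Set G) ⊆ ({1, f.z} : Set G) ×ˢ ((f.P : Subgroup G) : Set G) :=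
      Set.image_subset_iff.2 fun g _ => f.key_mem hU g
    have hge : 8 ≤ (f.key '' (H : Set G)).ncard := by
      calc 8 ≤ C.relIndex H := by omega
        _ = Nat.card (H ⧸ C.subgroupOf H) := index_eq_card _
        _ ≤ Nat.card (f.key '' (H : Set G)) := Nat.card_le_card_of_injective
            (fun x => ⟨f.key (((Quotient.out x : H) : G))⁻¹,
              Set.mem_image_of_mem _ (inv_mem (Quotient.out x).2)⟩) (fun x y hxy => by
              have := f.key_eq hU (congrArg Subtype.val hxy)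
              rw [inv_inv] at this
              rw [← Quotient.out_eq x, ← Quotient.out_eq y]
              exact QuotientGroup.eq.2 (mem_subgroupOf.2 this))
        _ = _ := Nat.card_coe_set_eq _
    have heq := Set.eq_of_subset_of_ncard_le hsub (by
      refine le_trans ?_ hge
      rw [Set.ncard_prod]
      have h1 : ({1, f.z} : Set G).ncard ≤ 2 := (Set.ncard_insert_le _ _).trans (by simp)
      have h2 : ((f.P : Subgroup G) : Set G).ncard = 4 := by
        rw [← Nat.card_coe_set_eq]; exact f.P_card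
      rw [h2]
      omega) (Set.toFinite _)
    intro p hp
    rw [← heq] at hp
    obtain ⟨g, hg, hgp⟩ := hp
    exact ⟨g, hg, hgp⟩
  obtain ⟨s, hs, hsk⟩ := hsurj (f.z, 1) ⟨by simp, one_mem _⟩
  obtain ⟨r, hr, hrk⟩ := hsurj (1, f.q) ⟨by simp, f.q_mem⟩
  simp only [Flag.key, Prod.mk.injEq] at hsk hrk
  have hee := hU.sq _ f.e_mem
  have hqq := hU.sq _ (f.P_le f.q_mem)
  have hsq : s⁻¹ * f.q * s = f.q * f.z :=
    calc s⁻¹ * f.q * s = (f.q * f.q) * (s⁻¹ * f.q * s) := by rw [hqq, one_mul]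
      _ = f.q * f.z := by rw [mul_assoc, hsk.1]
  have hse : s⁻¹ * f.e * s = f.e :=
    calc s⁻¹ * f.e * s = (f.e * f.e) * (s⁻¹ * f.e * s) := by rw [hee, one_mul]
      _ = f.e := by rw [mul_assoc, hsk.2, mul_one]
  have hre : r⁻¹ * f.e * r = f.e * f.q :=
    calc r⁻¹ * f.e * r = (f.e * f.e) * (r⁻¹ * f.e * r) := by rw [hee, one_mul]
      _ = f.e * f.q := by rw [mul_assoc, hrk.2]
  -- `r s` and `s r` act alike
  have hc : (r * s)⁻¹ * (s * r) ∈ C := by
    have := hcomm s hs r hr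
    have h' : r⁻¹ * (s⁻¹ * r * s) ∈ C := this
    have h'' := C.inv_mem h'
    have he : (r⁻¹ * (s⁻¹ * r * s))⁻¹ = (r * s)⁻¹ * (s * r) := by group
    rwa [he] at h''
  have hfix := mem_centralizer_iff.1 hc f.e f.e_mem
  have h1 : (r * s)⁻¹ * f.e * (r * s) = f.e * (f.q * f.z) :=
    calc (r * s)⁻¹ * f.e * (r * s) = (s⁻¹ * f.e * s) * (s⁻¹ * (f.e⁻¹ * (r⁻¹ * f.e * r)) * s) := by
          group
      _ = f.e * (f.q * f.z) := by rw [hse, hre, inv_mul_cancel_left, hsq]
  have h2 : (s * r)⁻¹ * f.e * (s * r) = f.e * f.q :=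
    calc (s * r)⁻¹ * f.e * (s * r) = r⁻¹ * (s⁻¹ * f.e * s) * r := by group
      _ = f.e * f.q := by rw [hse, hre]
  have h3 : (r * s)⁻¹ * f.e * (r * s) = (s * r)⁻¹ * f.e * (s * r) := by
    set d := (r * s)⁻¹ * (s * r) with hd
    have hmem : (r * s)⁻¹ * f.e * (r * s) ∈ U := hU.conj_mem f.e_mem _
    have h5 := mem_centralizer_iff.1 hc _ hmem
    calc (r * s)⁻¹ * f.e * (r * s) = d⁻¹ * (d * ((r * s)⁻¹ * f.e * (r * s))) := by group
      _ = d⁻¹ * (((r * s)⁻¹ * f.e * (r * s)) * d) := by rw [h5]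
      _ = (s * r)⁻¹ * f.e * (s * r) := by rw [hd]; group
  rw [h1, h2, mul_right_inj] at h3
  exact f.z_ne (mul_eq_left.1 h3)

/-- The bound when `U` is self-centralising. -/
theorem NormalEight.bound_of_cent_eq (hU : NormalEight U) (hC : centralizer (U : Set G) = U)
    {H N : Subgroup G} (h : Cfsg.Agent.Lib.SectRank.IsElemSection 2 N H) :
    N.relIndex H ≤ 16 := by
  obtain ⟨k, hk4, hk, hkd, -⟩ := hU.top_bound h
  rw [hC] at hk hkd
  obtain ⟨c, hc⟩ := relIndex_pow_two hU.pg N (U ⊓ H)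
  by_cases h4 : N.relIndex (U ⊓ H) ≤ 4
  · rw [hk]; exact (Nat.mul_le_mul hk4 h4).trans (by norm_num)
  have h8 := pow_two_dvd_le (b := 2) hc (by omega)
  obtain ⟨hUH, hUN⟩ := of_card_le_relIndex (B := U) (hU.card.le.trans h8)
  have hHU : H ≤ U := by
    intro x hx
    rw [← hC, mem_centralizer_iff]
    intro u hu
    have hcN : u * x * u⁻¹ * x⁻¹ ∈ N := h.comm u (hUH hu) x hx
    have hcU : u * x * u⁻¹ * x⁻¹ ∈ U := by
      have h1 := hU.normal.conj_mem _ (inv_mem hu) x
      have : u * x * u⁻¹ * x⁻¹ = u * (x * u⁻¹ * x⁻¹) := by group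
      rw [this]; exact mul_mem hu h1
    have h0 := hUN _ hcU hcN
    calc u * x = (u * x * u⁻¹ * x⁻¹) * (x * u) := by group
      _ = x * u := by rw [h0, one_mul]
  calc N.relIndex H ≤ Nat.card H := relIndex_le_card N H
    _ ≤ Nat.card U := card_le_of_le hHU
    _ ≤ 16 := by rw [hU.card]; norm_num

end Cfsg.Agent.Lib.HaradaEight
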