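import Mathlib
import Cfsg.Agent.Lib.HaradaEight.Eight

/-!
A normal elementary abelian `U` of order eight, a four subgroup `P ≤ U` and an involution `a`
with `⟨P, a⟩` self-centralising.
-/

set_option autoImplicit false

namespace Cfsg.Agent.Lib.HaradaEight

open Subgroup

universe u

variable {G : Type u} [Group G] [Finite G]

/-- The configuration. -/
structure Data (U P : Subgroup G) (a : G) : Prop where
  eight : NormalEight U
  le : P ≤ U
  card : Nat.card P = 4
  inv : a * a = 1
  fix : ∀ p ∈ P, a * p = p * a
  notC : a ∉ centralizer (U : Set G)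
  self : ∀ x : G, (∀ p ∈ P, x * p = p * x) → x * a = a * x → x ∈ P ∨ x * a ∈ P

/-- Twice the fixed points of an involution cover an elementary group of order eight. -/
theorem card_fixed {U : Subgroup G} (hU : NormalEight U) {x : G} (hx : x * x = 1) :
    4 ≤ Nat.card (U ⊓ centralizer ({x} : Set G) : Subgroup G) := by
  set F := U ⊓ centralizer ({x} : Set G) with hF
  have hxinv : x⁻¹ = x := inv_eq_of_mul_eq_one_left hx
  let f : U →* G := MonoidHom.mk' (fun u => (u : G) * (x⁻¹ * u * x)) fun u v => by
    have h := hU.comm (hU.conj_mem u.2 x) v.2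
    calc ((u * v : U) : G) * (x⁻¹ * ((u * v : U) : G) * x)
        = (u : G) * ((v : G) * (x⁻¹ * u * x)) * (x⁻¹ * v * x) := by
          simp only [Subgroup.coe_mul]; group
      _ = (u : G) * ((x⁻¹ * u * x) * v) * (x⁻¹ * v * x) := by rw [h]
      _ = _ := by group
  have hrange : f.range ≤ F := by
    rintro _ ⟨u, rfl⟩
    refine ⟨mul_mem u.2 (hU.conj_mem u.2 x), mem_centralizer_singleton_iff.2 ?_⟩
    show (u : G) * (x⁻¹ * u * x) * x = x * ((u : G) * (x⁻¹ * u * x))
    have h := hU.comm (hU.conj_mem u.2 x) u.2
    calc (u : G) * (x⁻¹ * u * x) * x = (u : G) * x⁻¹ * u * (x * x) := by group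
      _ = (u : G) * x * u := by rw [hx, mul_one, hxinv]
      _ = x * ((x⁻¹ * u * x) * u) := by group
      _ = x * ((u : G) * (x⁻¹ * u * x)) := by rw [h]
  have hker : f.ker.map U.subtype ≤ F := by
    rintro _ ⟨u, hu, rfl⟩
    refine ⟨u.2, mem_centralizer_singleton_iff.2 ?_⟩
    have h1 : (u : G) * (x⁻¹ * u * x) = 1 := hu
    have h2 : x⁻¹ * u * x = u := by
      calc x⁻¹ * u * x = (u : G)⁻¹ * ((u : G) * (x⁻¹ * u * x)) := by group
        _ = (u : G) := by rw [h1, mul_one, inv_eq_of_mul_eq_one_left (hU.sq u u.2)]
    show (u : G) * x = x * u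
    calc (u : G) * x = x * (x⁻¹ * u * x) := by group
      _ = x * u := by rw [h2]
  have h1 := f.ker.card_mul_index
  rw [index_ker, hU.card] at h1
  have h2 := card_le_of_le hrange
  have h3 : Nat.card f.ker ≤ Nat.card F := by
    have := card_le_of_le hker
    rwa [Subgroup.card_map_of_injective U.subtype_injective] at this
  have h4 := Nat.mul_le_mul h3 h2
  rw [h1] at h4
  have h5 : Nat.card F ∣ 2 ^ 3 := by
    show Nat.card F ∣ 8
    rw [← hU.card]; exact card_dvd_of_le inf_le_left
  by_contra hlt
  obtain ⟨k, -, hk⟩ := (Nat.dvd_prime_pow Nat.prime_two).1 h5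
  rw [hk] at h4 hlt
  rcases Nat.lt_or_ge k 2 with h | h
  · interval_cases k <;> norm_num at h4
  · exact hlt (le_trans (by norm_num) (Nat.pow_le_pow_right two_pos h))

namespace Data

variable {U P : Subgroup G} {a : G} (hD : Data U P a)
include hD

theorem a_notMem : a ∉ U := fun h => hD.notC (hD.eight.le_cent h)

theorem inv_eq : a⁻¹ = a := inv_eq_of_mul_eq_one_left hD.inv

theorem not_mul_mem {x : G} (hx : x ∈ centralizer (U : Set G)) : x * a ∉ P := fun h => by
  refine hD.notC ?_
  have h' := mul_mem (inv_mem hx) (hD.eight.le_cent (hD.le h))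
  rwa [inv_mul_cancel_left] at h'

theorem comm_P {x : G} (hx : x ∈ centralizer (U : Set G)) {p : G} (hp : p ∈ P) :
    x * p = p * x :=
  (mem_centralizer_iff.1 hx p (hD.le hp)).symm

/-- The only elements of `C` centralised by `a` are those of `P`. -/
theorem mem_P_of_cent {x : G} (hx : x ∈ centralizer (U : Set G)) (h : x * a = a * x) : x ∈ P :=
  (hD.self x (fun p hp => hD.comm_P hx hp) h).resolve_right (hD.not_mul_mem hx)

theorem exists_e : ∃ e ∈ U, e ∉ P := by
  by_contra hc
  push Not at hc
  have := card_le_of_le (show U ≤ P from hc)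
  rw [hD.card, hD.eight.card] at this
  omega

theorem coset {e u : G} (he : e ∈ U) (heP : e ∉ P) (hu : u ∈ U) : u ∈ P ∨ e * u ∈ P := by
  by_cases h : u ∈ P
  · exact Or.inl h
  right
  have hidx : (P.subgroupOf U).index = 2 := by
    have h1 := relIndex_mul_card P U
    rw [inf_eq_left.2 hD.le, hD.card, hD.eight.card] at h1
    show P.relIndex U = 2
    omega
  exact (mul_mem_iff_of_index_two hidx (a := ⟨e, he⟩) (b := ⟨u, hu⟩)).2
    ⟨fun h' => absurd h' heP, fun h' => absurd h' h⟩

/-- An element centralising `P` moves `e` inside `e P`. -/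
theorem move_mem {e l : G} (he : e ∈ U) (heP : e ∉ P) (hl : ∀ p ∈ P, l * p = p * l) :
    e * (l⁻¹ * e * l) ∈ P := by
  refine (hD.coset he heP (hD.eight.conj_mem he l)).resolve_left fun h => heP ?_
  have h' := hl _ h
  have : e = l⁻¹ * e * l := by
    calc e = l * (l⁻¹ * e * l) * l⁻¹ := by group
      _ = l⁻¹ * e * l := by rw [h']; group
  rw [this]; exact h

end Data

/-- A self-centralising elementary abelian group of order eight gives the configuration, unless a
normal elementary abelian subgroup of order eight is self-centralising. -/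
theorem exists_data {U A : Subgroup G} (hU : NormalEight U) (hAc : Nat.card A = 8)
    (hAsq : ∀ x ∈ A, x * x = 1) (hA : centralizer (A : Set G) = A) :
    centralizer (U : Set G) = U ∨ ∃ P : Subgroup G, ∃ a, Data U P a := by
  haveI : Fact (Nat.Prime 2) := ⟨Nat.prime_two⟩
  haveI := hU.normal
  haveI := hU.cent_normal
  have hcomm : ∀ x ∈ A, ∀ y ∈ A, x * y = y * x := fun x hx y hy =>
    (mem_centralizer_iff.1 (show y ∈ centralizer (A : Set G) from hA.symm ▸ hy) x hx)
  have hmemA : ∀ x : G, (∀ y ∈ A, y * x = x * y) → x ∈ A := fun x hx =>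
    hA ▸ mem_centralizer_iff.2 hx
  set P₀ := U ⊓ A with hP₀
  by_cases hUA : U ≤ A
  · left
    have : U = A := eq_of_le_of_card_ge hUA (by rw [hAc, hU.card])
    rw [this, hA]
  right
  have hP₀4 : Nat.card P₀ ≤ 4 := by
    have h1 : Nat.card P₀ ∣ 2 ^ 3 := by
      show Nat.card P₀ ∣ 8
      rw [← hU.card]; exact card_dvd_of_le inf_le_left
    obtain ⟨k, hk3, hk⟩ := (Nat.dvd_prime_pow Nat.prime_two).1 h1
    rcases Nat.lt_or_ge k 3 with h | h
    · rw [hk]; exact le_trans (Nat.pow_le_pow_right two_pos (Nat.lt_succ_iff.1 h)) (by norm_num)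
    · exfalso
      have : P₀ = U := eq_of_le_of_card_ge inf_le_left (by
        rw [hk, hU.card, show k = 3 by omega]; norm_num)
      exact hUA (inf_eq_left.1 this)
  by_cases h4 : Nat.card P₀ = 4
  · -- `A ∩ U` is a four group
    obtain ⟨a, ha, haU⟩ : ∃ a ∈ A, a ∉ U := by
      by_contra hc
      push Not at hc
      have : P₀ = A := inf_eq_right.2 hc
      rw [this, hAc] at h4
      omega
    have hidx : (P₀.subgroupOf A).index = 2 := by
      have h1 := relIndex_mul_card P₀ A
      rw [inf_eq_left.2 (show P₀ ≤ A from inf_le_right), h4, hAc] at h1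
      show P₀.relIndex A = 2
      omega
    have hcov : ∀ y ∈ A, y ∈ P₀ ∨ y * a ∈ P₀ := by
      intro y hy
      by_cases h : y ∈ P₀
      · exact Or.inl h
      exact Or.inr ((mul_mem_iff_of_index_two hidx (a := ⟨y, hy⟩) (b := ⟨a, ha⟩)).2
        ⟨fun h' => absurd h' h, fun h' => absurd (h' : a ∈ P₀).1 haU⟩)
    have hainv : a⁻¹ = a := inv_eq_of_mul_eq_one_left (hAsq a ha)
    refine ⟨P₀, a, hU, inf_le_left, h4, hAsq a ha, fun p hp => hcomm a ha p hp.2, fun haC => ?_,
      fun x hxP hxa => ?_⟩
    · refine hUA fun u hu => hmemA u fun y hy => ?_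
      rcases hcov y hy with h | h
      · exact hU.comm h.1 hu
      · have h1 := hU.comm h.1 hu
        have h2 := mem_centralizer_iff.1 haC u hu
        calc y * u = (y * a * u) * a⁻¹ := by rw [mul_assoc y a u, ← h2]; group
          _ = (u * (y * a)) * a⁻¹ := by rw [h1]
          _ = u * y := by group
    · refine hcov x (hmemA x fun y hy => ?_)
      rcases hcov y hy with h | h
      · exact (hxP y h).symm
      · have h1 := (hxP _ h).symm
        calc y * x = (y * a) * (a * x) := by
              rw [mul_assoc y a (a * x), ← mul_assoc a a x, hAsq a ha, one_mul]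
          _ = (y * a * x) * a := by rw [← hxa]; group
          _ = x * y := by rw [h1, mul_assoc, mul_assoc y a a, hAsq a ha, mul_one]
  -- `A ∩ U` has order two
  obtain ⟨f⟩ := hU.exists_flag
  have hzA : f.z ∈ A := hmemA _ fun y _ => (f.z_central y).symm
  have hzP₀ : f.z ∈ P₀ := ⟨f.P_le f.z_mem, hzA⟩
  have hP₀eq : ∀ x ∈ P₀, x = 1 ∨ x = f.z := by
    intro x hx
    by_contra hc
    push Not at hc
    have hsub : ({1, f.z, x} : Set G) ⊆ (P₀ : Set G) := by
      rintro y (rfl | rfl | rfl)
      exacts [one_mem _, hzP₀, hx]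
    have h3 : ({1, f.z, x} : Set G).ncard = 3 :=
      Set.ncard_eq_three.2 ⟨1, f.z, x, Ne.symm f.z_ne, Ne.symm hc.1, Ne.symm hc.2, rfl⟩
    have h4' := Set.ncard_le_ncard hsub (Set.toFinite _)
    rw [h3, ← Nat.card_coe_set_eq] at h4'
    have h1 : Nat.card P₀ ∣ 2 ^ 3 := by
      show Nat.card P₀ ∣ 8
      rw [← hU.card]; exact card_dvd_of_le inf_le_left
    obtain ⟨k, -, hk⟩ := (Nat.dvd_prime_pow Nat.prime_two).1 h1
    have h6 : 3 ≤ Nat.card P₀ := h4'
    rw [hk] at h6 hP₀4 h4
    rcases Nat.lt_or_ge k 2 with h | h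
    · interval_cases k <;> norm_num at h6
    · rcases eq_or_lt_of_le h with h' | h'
      · exact h4 (by rw [← h']; norm_num)
      · have := Nat.pow_le_pow_right two_pos h'
        norm_num at this
        omega
  -- an element of `A` moving `q`
  obtain ⟨a, ha, haq⟩ : ∃ a ∈ A, a * f.q ≠ f.q * a := by
    by_contra hc
    push Not at hc
    rcases hP₀eq f.q ⟨f.P_le f.q_mem, hmemA _ hc⟩ with h | h
    exacts [f.q_notMem.1 h, f.q_notMem.2 h]
  have ha2 := hAsq a ha
  have hainv : a⁻¹ = a := inv_eq_of_mul_eq_one_left ha2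
  have haC : a ∉ centralizer (U : Set G) := fun h =>
    haq (mem_centralizer_iff.1 h f.q (f.P_le f.q_mem)).symm
  set P := U ⊓ centralizer ({a} : Set G) with hP
  have hPc : Nat.card P = 4 := by
    have h1 := card_fixed hU ha2
    have h2 : Nat.card P ∣ 2 ^ 3 := by
      show Nat.card P ∣ 8
      rw [← hU.card]; exact card_dvd_of_le inf_le_left
    have h3 : Nat.card P < 8 := by
      rw [← hU.card]
      rcases lt_or_ge (Nat.card P) (Nat.card U) with h | h
      · exact h
      · exfalso
        exact haq (mem_centralizer_singleton_iff.1 (inf_eq_left.1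
          (eq_of_le_of_card_ge inf_le_left h) (f.P_le f.q_mem))).symm
    obtain ⟨k, -, hk⟩ := (Nat.dvd_prime_pow Nat.prime_two).1 h2
    rw [← hP, hk] at h1
    rw [hk] at h3 ⊢
    have hk2 : k = 2 := by
      rcases Nat.lt_or_ge k 2 with h | h
      · interval_cases k <;> norm_num at h1
      · by_contra hne
        have := Nat.pow_le_pow_right two_pos (show 3 ≤ k by omega)
        norm_num at this
        omega
    rw [hk2]; norm_num
  have hfix : ∀ p ∈ P, a * p = p * a := fun p hp =>
    (mem_centralizer_singleton_iff.1 hp.2).symm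
  have hzP : f.z ∈ P :=
    ⟨f.P_le f.z_mem, mem_centralizer_singleton_iff.2 (f.z_central a)⟩
  have hqP : f.q ∉ P := fun h => haq (hfix _ h)
  have hqa : a⁻¹ * f.q * a = f.q * f.z := by
    refine (f.q_conj a).resolve_left fun h => haq ?_
    calc a * f.q = a * (a⁻¹ * f.q * a) := by rw [h]
      _ = f.q * a := by group
  -- `C` meets the centraliser of `a` in `P`
  have hM : ∀ x ∈ centralizer (U : Set G), x * a = a * x → x ∈ P := by
    intro x hxC hxa
    by_contra hxP
    -- `A` is generated by `a`, a further element `b` and `z`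
    obtain ⟨b, hb, p₀, hp₀, hbp⟩ : ∃ b ∈ A, ∃ p ∈ P, b * p ≠ p * b := by
      by_contra hc
      push Not at hc
      have hsub : P ≤ P₀ := fun p hp => ⟨hp.1, hmemA p fun y hy => hc y hy p hp⟩
      have := card_le_of_le hsub
      rw [hPc] at this
      omega
    have hbinv : b⁻¹ = b := inv_eq_of_mul_eq_one_left (hAsq b hb)
    have hab : a * b = b * a := hcomm a ha b hb
    -- `A` is generated by `a`, `b`, `z`
    have hstep : ∀ {B D : Subgroup G}, B < D → 2 * Nat.card B ≤ Nat.card D := by
      intro B D hBD
      obtain ⟨c, hc⟩ := card_dvd_of_le hBD.le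
      have hlt' : Nat.card B < Nat.card D := by
        rcases lt_or_ge (Nat.card B) (Nat.card D) with h | h
        · exact h
        · exact absurd (eq_of_le_of_card_ge hBD.le h) hBD.ne
      rw [hc, mul_comm 2]
      refine Nat.mul_le_mul_left _ ?_
      by_contra hc2
      interval_cases c <;> omega
    have hz2 : 2 ≤ Nat.card (zpowers f.z) := by
      refine (one_lt_card_iff_ne_bot _).2 fun h => f.z_ne ?_
      have hz' := mem_zpowers f.z
      rwa [h, mem_bot] at hz'
    have hgenA : ∀ {v w : G}, v ∈ A → w ∈ A → v ∉ zpowers f.z →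
        w ∉ closure ({f.z, v} : Set G) → A ≤ closure ({f.z, v, w} : Set G) := by
      intro v w hv hw h1 h2
      have hlt1 : zpowers f.z < closure ({f.z, v} : Set G) :=
        lt_of_le_of_ne (zpowers_le.2 (subset_closure (by simp)))
          fun h => h1 (h.symm ▸ subset_closure (by simp))
      have hlt2 : closure ({f.z, v} : Set G) < closure ({f.z, v, w} : Set G) :=
        lt_of_le_of_ne (closure_mono (by rintro x (rfl | rfl) <;> simp))
          fun h => h2 (h.symm ▸ subset_closure (by simp))
      have hsub : closure ({f.z, v, w} : Set G) ≤ A := by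
        rw [closure_le]; rintro x (rfl | rfl | rfl)
        exacts [hzA, hv, hw]
      refine (eq_of_le_of_card_ge hsub ?_).ge
      have := hstep hlt1
      have := hstep hlt2
      omega
    have haz : a ∉ zpowers f.z := fun ⟨j, hj⟩ =>
      haC (hj ▸ zpow_mem (hU.le_cent (f.P_le f.z_mem)) j)
    have hfixp₀ : ∀ {S : Set G}, (∀ w ∈ S, w * p₀ = p₀ * w) → b ∉ closure S := by
      intro S hS hbS
      have h : closure S ≤ centralizer ({p₀} : Set G) :=
        (closure_le _).2 fun w hw => mem_centralizer_singleton_iff.2 (hS w hw)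
      exact hbp (mem_centralizer_singleton_iff.1 (h hbS))
    have hbQ : b ∉ closure ({f.z, a} : Set G) := hfixp₀ (by
      rintro w (rfl | rfl)
      exacts [f.z_central p₀, hfix p₀ hp₀])
    have hmemA2 : ∀ v : G, a * v = v * a → b * v = v * b → v ∈ A := by
      intro v hav hbv
      refine hmemA v fun y hy => ?_
      have hcl : closure ({f.z, a, b} : Set G) ≤ centralizer ({v} : Set G) := by
        rw [closure_le]
        rintro w (rfl | rfl | rfl) <;> rw [SetLike.mem_coe, mem_centralizer_singleton_iff]
        exacts [f.z_central v, hav, hbv]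
      exact mem_centralizer_singleton_iff.1 (hcl (hgenA ha hb haz hbQ hy))
    set M := centralizer (U : Set G) ⊓ centralizer ({a} : Set G) with hMdef
    have hbconj : ∀ m ∈ M, b * m * b ∈ M := by
      intro m hm
      refine ⟨?_, mem_centralizer_singleton_iff.2 ?_⟩
      · have := hU.cent_normal.conj_mem m hm.1 b
        rwa [hbinv] at this
      · have hma := mem_centralizer_singleton_iff.1 hm.2
        calc b * m * b * a = b * (m * a) * b := by
              rw [mul_assoc (b * m) b a, ← hab]; group
          _ = (b * a) * m * b := by rw [hma]; group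
          _ = a * (b * m * b) := by rw [← hab]; group
    set E := M ⊔ zpowers b with hE
    have hnormM : E ≤ normalizer (M : Set G) := by
      refine sup_le le_normalizer (zpowers_le.2 (mem_normalizer_iff.2 fun m => ?_))
      constructor
      · intro hm; rw [hbinv]; exact hbconj m hm
      · intro hm
        rw [hbinv] at hm
        have := hbconj _ hm
        have he : b * (b * m * b) * b = m := by
          calc b * (b * m * b) * b = (b * b) * m * (b * b) := by group
            _ = m := by rw [hAsq b hb, one_mul, mul_one]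
        rwa [he] at this
    have hPM : P ≤ M := fun p hp => ⟨hU.le_cent hp.1, hp.2⟩
    have hbP : ∀ p ∈ P, b * p * b ∈ P := by
      intro p hp
      refine ⟨?_, (hbconj p (hPM hp)).2⟩
      have := hU.conj_mem hp.1 b⁻¹
      rwa [inv_inv, hbinv] at this
    have hnormP : E ≤ normalizer (P : Set G) := by
      refine sup_le (fun m hm => mem_normalizer_iff.2 fun p => ?_)
        (zpowers_le.2 (mem_normalizer_iff.2 fun p => ?_))
      · constructor
        · intro hp
          rw [← mem_centralizer_iff.1 hm.1 p hp.1, mul_inv_cancel_right]; exact hp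
        · intro hp
          have h := mem_centralizer_iff.1 hm.1 _ hp.1
          have : p = m * p * m⁻¹ := by
            calc p = m⁻¹ * ((m * p * m⁻¹) * m) := by group
              _ = m * p * m⁻¹ := by rw [h]; group
          rw [this]; exact hp
      · constructor
        · intro hp; rw [hbinv]; exact hbP p hp
        · intro hp
          rw [hbinv] at hp
          have := hbP _ hp
          have he : b * (b * p * b) * b = p := by
            calc b * (b * p * b) * b = (b * b) * p * (b * b) := by group
              _ = p := by rw [hAsq b hb, one_mul, mul_one]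
          rwa [he] at this
    haveI hPE : (P.subgroupOf E).Normal := normal_subgroupOf_of_le_normalizer hnormP
    haveI hME : (M.subgroupOf E).Normal := normal_subgroupOf_of_le_normalizer hnormM
    have hxM : x ∈ M := ⟨hxC, mem_centralizer_singleton_iff.2 hxa⟩
    have hlt : P.subgroupOf E < M.subgroupOf E := by
      refine lt_of_le_of_ne (fun y hy => hPM hy) fun h => hxP ?_
      have : (⟨x, mem_sup_left hxM⟩ : E) ∈ P.subgroupOf E := h.symm ▸ hxM
      exact this
    obtain ⟨K, -, hPK, hKM, hKc, hKz⟩ := PLemmas.exists_normal_step (hU.pg.to_subgroup E) hlt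
    obtain ⟨m, hmK, hmP⟩ : ∃ m ∈ K, m ∉ P.subgroupOf E := by
      by_contra hc
      push Not at hc
      have := card_le_of_le (show K ≤ P.subgroupOf E from hc)
      have : 0 < Nat.card (P.subgroupOf E) := Nat.card_pos
      omega
    have hmM : (m : G) ∈ M := hKM hmK
    have hd : b * (m : G) * b * (m : G)⁻¹ ∈ P := by
      have h := hKz ⟨b, mem_sup_right (mem_zpowers b)⟩ m hmK
      rw [mem_subgroupOf, commutatorElement_def] at h
      simpa [hbinv] using h
    set d := b * (m : G) * b * (m : G)⁻¹ with hddef
    have hdz : d = 1 ∨ d = f.z := by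
      have hdfix : b * d = d * b := by
        have h1 : b * d * b = d⁻¹ := by
          calc b * d * b = (b * b) * m * b * (m : G)⁻¹ * b := by rw [hddef]; group
            _ = ((m : G) * b⁻¹ * (m : G)⁻¹ * b⁻¹) := by rw [hAsq b hb, hbinv, one_mul]
            _ = d⁻¹ := by rw [hddef]; group
        calc b * d = (b * d * b) * b := by rw [mul_assoc (b * d) b b, hAsq b hb, mul_one]
          _ = d⁻¹ * b := by rw [h1]
          _ = d * b := by rw [inv_eq_of_mul_eq_one_left (hU.sq d hd.1)]
      exact hP₀eq d ⟨hd.1, hmemA2 d (hfix d hd) hdfix⟩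
    have hfixed : ∀ v ∈ M, b * v * b = v → v ∈ P := by
      intro v hv hvb
      have hbv : b * v = v * b := by
        calc b * v = b * v * b * b := by rw [mul_assoc _ b b, hAsq b hb, mul_one]
          _ = v * b := by rw [hvb]
      have hvA : v ∈ A := hmemA2 v (mem_centralizer_singleton_iff.1 hv.2).symm hbv
      by_cases hvU : v ∈ U
      · exact ⟨hvU, hv.2⟩
      exfalso
      have hvz : v ∉ zpowers f.z := fun ⟨j, hj⟩ => hvU (hj ▸ zpow_mem (f.P_le f.z_mem) j)
      have hav : a ∉ closure ({f.z, v} : Set G) := fun h => haC (by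
        have hle : closure ({f.z, v} : Set G) ≤ centralizer (U : Set G) := by
          rw [closure_le]; rintro w (rfl | rfl)
          exacts [hU.le_cent (f.P_le f.z_mem), hv.1]
        exact hle h)
      refine hfixp₀ ?_ (hgenA hvA ha hvz hav hb)
      rintro w (rfl | rfl | rfl)
      exacts [f.z_central p₀, (mem_centralizer_iff.1 hv.1 p₀ hp₀.1).symm, hfix p₀ hp₀]
    -- a fixed element of `M` outside `P`
    have hdb : b * (m : G) * b = d * m := by rw [hddef]; group
    rcases hdz with h1 | h1
    · rw [h1, one_mul] at hdb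
      exact hmP (hfixed m hmM hdb)
    · rw [h1] at hdb
      -- `b` moves `p₀` by `z` as well
      have hp₀' : b * p₀ * b ∈ P := hbP p₀ hp₀
      have hdd : (b * p₀ * b) * p₀⁻¹ = f.z := by
        set d' := (b * p₀ * b) * p₀⁻¹ with hd'
        have hd'P : d' ∈ P := mul_mem hp₀' (inv_mem hp₀)
        have hbd : b * d' = d' * b := by
          have h2 : b * d' * b = d'⁻¹ := by
            calc b * d' * b = (b * b) * p₀ * b * p₀⁻¹ * b := by rw [hd']; group
              _ = (p₀ * b⁻¹ * p₀⁻¹ * b⁻¹) := by rw [hAsq b hb, hbinv, one_mul]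
              _ = d'⁻¹ := by rw [hd']; group
          calc b * d' = (b * d' * b) * b := by rw [mul_assoc (b * d') b b, hAsq b hb, mul_one]
            _ = d'⁻¹ * b := by rw [h2]
            _ = d' * b := by rw [inv_eq_of_mul_eq_one_left (hU.sq d' hd'P.1)]
        have hbd' : b * d' * b = d' := by rw [hbd, mul_assoc, hAsq b hb, mul_one]
        have hd'U := hd'P.1
        have hd'A : d' ∈ A := hmemA2 d' (hfix d' hd'P) hbd
        rcases hP₀eq d' ⟨hd'U, hd'A⟩ with h | h
        · exfalso
          refine hbp ?_
          have h' : b * p₀ * b = p₀ := mul_inv_eq_one.1 h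
          calc b * p₀ = b * p₀ * b * b := by rw [mul_assoc _ b b, hAsq b hb, mul_one]
            _ = p₀ * b := by rw [h']
        · exact h
      have hmp : (m : G) * p₀ ∈ M := mul_mem hmM (hPM hp₀)
      have hfix2 : b * ((m : G) * p₀) * b = (m : G) * p₀ := by
        calc b * ((m : G) * p₀) * b = (b * m * b) * (b⁻¹ * p₀ * b) := by group
          _ = (f.z * m) * (f.z * p₀) := by
              rw [hdb, hbinv, show b * p₀ * b = f.z * p₀ by rw [← hdd]; group]
          _ = f.z * (f.z * ((m : G) * p₀)) := by
              rw [mul_assoc f.z (m : G), ← mul_assoc (m : G) f.z, ← f.z_central m]; group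
          _ = (m : G) * p₀ := by rw [← mul_assoc, hU.sq _ (f.P_le f.z_mem), one_mul]
      have hmem : (m : G) ∈ P := (Subgroup.mul_mem_cancel_right P hp₀).1 (hfixed _ hmp hfix2)
      exact hmP hmem
  refine ⟨P, a, hU, inf_le_left, hPc, ha2, hfix, haC, fun x hxP hxa => ?_⟩
  -- the element `x` fixes `P` and moves `q` by at most `z`
  rcases f.q_conj x with hq | hq
  · left
    refine hM x (mem_centralizer_iff.2 fun u hu => ?_) hxa
    have hall : closure ((P : Set G) ∪ {f.q}) ≤ centralizer ({x} : Set G) := by
      rw [closure_le]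
      rintro w (hw | rfl) <;> rw [SetLike.mem_coe, mem_centralizer_singleton_iff]
      · exact (hxP w hw).symm
      · calc f.q * x = x * (x⁻¹ * f.q * x) := by group
          _ = x * f.q := by rw [hq]
    have heq : U ≤ closure ((P : Set G) ∪ {f.q}) := by
      have hle : closure ((P : Set G) ∪ {f.q}) ≤ U := by
        rw [closure_le]; rintro w (hw | rfl)
        exacts [hw.1, f.P_le f.q_mem]
      have hlt : P < closure ((P : Set G) ∪ {f.q}) :=
        lt_of_le_of_ne (fun w hw => subset_closure (Or.inl hw)) fun h =>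
          hqP (h.symm ▸ subset_closure (Or.inr rfl))
      obtain ⟨c, hc⟩ := card_dvd_of_le hlt.le
      have hlt' : Nat.card P < Nat.card (closure ((P : Set G) ∪ {f.q})) := by
        rcases lt_or_ge (Nat.card P) (Nat.card (closure ((P : Set G) ∪ {f.q}))) with h | h
        · exact h
        · exact absurd (eq_of_le_of_card_ge hlt.le h) hlt.ne
      refine (eq_of_le_of_card_ge hle ?_).ge
      rw [hc, hPc] at hlt'
      rw [hU.card, hc, hPc]
      omega
    exact mem_centralizer_singleton_iff.1 (hall (heq hu))
  · right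
    refine hM (x * a) (mem_centralizer_iff.2 fun u hu => ?_) (by rw [hxa, mul_assoc a x a, hxa])
    have hall : closure ((P : Set G) ∪ {f.q}) ≤ centralizer ({x * a} : Set G) := by
      rw [closure_le]
      rintro w (hw | rfl) <;> rw [SetLike.mem_coe, mem_centralizer_singleton_iff]
      · calc w * (x * a) = (x * w) * a := by rw [← mul_assoc, hxP w hw]
          _ = (x * a) * w := by rw [mul_assoc x w a, ← hfix w hw]; group
      · have h1 : (x * a)⁻¹ * f.q * (x * a) = f.q := by
          calc (x * a)⁻¹ * f.q * (x * a) = a⁻¹ * (x⁻¹ * f.q * x) * a := by group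
            _ = (a⁻¹ * f.q * a) * (a⁻¹ * (f.z * a)) := by rw [hq]; group
            _ = (f.q * f.z) * f.z := by rw [hqa, f.z_central a]; group
            _ = f.q := by rw [mul_assoc, hU.sq _ (f.P_le f.z_mem), mul_one]
        calc f.q * (x * a) = (x * a) * ((x * a)⁻¹ * f.q * (x * a)) := by group
          _ = (x * a) * f.q := by rw [h1]
    have heq : U ≤ closure ((P : Set G) ∪ {f.q}) := by
      have hle : closure ((P : Set G) ∪ {f.q}) ≤ U := by
        rw [closure_le]; rintro w (hw | rfl)
        exacts [hw.1, f.P_le f.q_mem]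
      have hlt : P < closure ((P : Set G) ∪ {f.q}) :=
        lt_of_le_of_ne (fun w hw => subset_closure (Or.inl hw)) fun h =>
          hqP (h.symm ▸ subset_closure (Or.inr rfl))
      obtain ⟨c, hc⟩ := card_dvd_of_le hlt.le
      have hlt' : Nat.card P < Nat.card (closure ((P : Set G) ∪ {f.q})) := by
        rcases lt_or_ge (Nat.card P) (Nat.card (closure ((P : Set G) ∪ {f.q}))) with h | h
        · exact h
        · exact absurd (eq_of_le_of_card_ge hlt.le h) hlt.ne
      refine (eq_of_le_of_card_ge hle ?_).ge
      rw [hc, hPc] at hlt'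
      rw [hU.card, hc, hPc]
      omega
    exact mem_centralizer_singleton_iff.1 (hall (heq hu))

end Cfsg.Agent.Lib.HaradaEight
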