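import Mathlib
import Cfsg.Agent.Lib.HaradaEight.Data

/-!
The action of the involution `a` on `C = C_G(U)`: the element `g` with `g U` central in `G / U`,
its square, and the fixed points modulo `U`.
-/

set_option autoImplicit false

namespace Cfsg.Agent.Lib.HaradaEight

open Subgroup
open scoped commutatorElement

universe u

variable {G : Type u} [Group G] [Finite G] {U P : Subgroup G} {a : G}

/-- `x⁻¹ x ^ a`. -/
def phi (a x : G) : G := x⁻¹ * (a * x * a)

/-- Everything we fix about the configuration. -/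
structure Core (U P : Subgroup G) (a : G) where
  e : G
  t : G
  g : G
  u₀ : G
  e_mem : e ∈ U
  e_notMem : e ∉ P
  t_eq : a * e * a = e * t
  t_mem : t ∈ P
  t_ne : t ≠ 1
  u₀_mem : u₀ ∈ P
  u₀_ne : u₀ ≠ 1 ∧ u₀ ≠ t
  g_cent : g ∈ centralizer (U : Set G)
  g_notMem : g ∉ U
  g_conj : ∀ s : G, g⁻¹ * (s⁻¹ * g * s) ∈ U
  g_sq : g * g ∈ U
  g_move : a * g * a = g * u₀

theorem exists_core (hD : Data U P a) (hne : centralizer (U : Set G) ≠ U) :
    Nonempty (Core U P a) := by
  haveI : Fact (Nat.Prime 2) := ⟨Nat.prime_two⟩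
  have hU := hD.eight
  haveI := hU.normal
  haveI := hU.cent_normal
  have hai := hD.inv_eq
  obtain ⟨e, he, heP⟩ := hD.exists_e
  have hconjU : ∀ u ∈ U, a * u * a ∈ U := fun u hu => by
    have := hU.conj_mem hu a
    rwa [hai] at this
  set t := e * (a * e * a) with ht
  have htP : t ∈ P := by
    refine hD.mem_P_of_cent (hU.le_cent (mul_mem he (hconjU e he))) ?_
    calc e * (a * e * a) * a = e * (a * e * (a * a)) := by group
      _ = e * a * e := by rw [hD.inv, mul_one, mul_assoc]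
      _ = (a * a) * (e * a * e) := by rw [hD.inv, one_mul]
      _ = a * ((a * e * a) * e) := by group
      _ = a * (e * (a * e * a)) := by rw [hU.comm (hconjU e he) he]
  have htne : t ≠ 1 := by
    intro h
    refine heP (hD.mem_P_of_cent (hU.le_cent he) ?_)
    have h' : a * e * a = e := by
      calc a * e * a = (e * e) * (a * e * a) := by rw [hU.sq e he, one_mul]
        _ = e := by rw [mul_assoc, ← ht, h, mul_one]
    calc e * a = (a * e * a) * a := by rw [h']
      _ = a * e := by rw [mul_assoc (a * e) a a, hD.inv, mul_one]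
  have hte : a * e * a = e * t := by rw [ht, ← mul_assoc, hU.sq e he, one_mul]
  obtain ⟨K, -, hUK, hKC, hKc, hKz⟩ :=
    PLemmas.exists_normal_step hU.pg (lt_of_le_of_ne hU.le_cent (Ne.symm hne))
  obtain ⟨g, hg, hgU⟩ : ∃ g ∈ K, g ∉ U := by
    by_contra hc
    push Not at hc
    have := card_le_of_le (show K ≤ U from hc)
    rw [hKc, hU.card] at this
    omega
  have hgC := hKC hg
  have hgsq : g * g ∈ U := by
    have hidx : (U.subgroupOf K).index = 2 := by
      have h1 := relIndex_mul_card U K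
      rw [inf_eq_left.2 hUK, hKc, hU.card] at h1
      show U.relIndex K = 2
      omega
    exact mem_subgroupOf.1 (mul_self_mem_of_index_two hidx (⟨g, hg⟩ : K))
  have hgconj : ∀ s : G, g⁻¹ * (s⁻¹ * g * s) ∈ U := by
    intro s
    have h := hKz s⁻¹ g hg
    rw [commutatorElement_def, inv_inv] at h
    have h2 := hU.conj_mem h g
    rw [show g⁻¹ * (s⁻¹ * g * s) = g⁻¹ * (s⁻¹ * g * s * g⁻¹) * g by group]
    exact h2
  set u₀ := g⁻¹ * (a * g * a) with hu₀
  have hu₀U : u₀ ∈ U := by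
    have := hgconj a
    rwa [hai] at this
  have hu₀P : u₀ ∈ P := by
    refine hD.mem_P_of_cent (hU.le_cent hu₀U) ?_
    have h1 : a * u₀ * a = u₀⁻¹ := by
      rw [hu₀]
      calc a * (g⁻¹ * (a * g * a)) * a = a * g⁻¹ * a * g * (a * a) := by group
        _ = a⁻¹ * g⁻¹ * a⁻¹ * g := by rw [hD.inv, mul_one, hai]
        _ = (g⁻¹ * (a * g * a))⁻¹ := by group
    calc u₀ * a = (a * u₀ * a) * a := by rw [h1, inv_eq_of_mul_eq_one_left (hU.sq _ hu₀U)]
      _ = a * u₀ := by rw [mul_assoc (a * u₀) a a, hD.inv, mul_one]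
  have hgmove : a * g * a = g * u₀ := by rw [hu₀]; group
  refine ⟨⟨e, t, g, u₀, he, heP, hte, htP, htne, hu₀P, ⟨fun h => ?_, fun h => ?_⟩, hgC, hgU,
    hgconj, hgsq, hgmove⟩⟩
  · refine hgU (hD.le (hD.mem_P_of_cent hgC ?_))
    rw [h, mul_one] at hgmove
    calc g * a = (a * g * a) * a := by rw [hgmove]
      _ = a * g := by rw [mul_assoc (a * g) a a, hD.inv, mul_one]
  · refine hgU ?_
    have hge : g * e ∈ centralizer (U : Set G) := mul_mem hgC (hU.le_cent he)
    have h1 : a * (g * e) * a = g * e := by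
      calc a * (g * e) * a = (a * g * a⁻¹) * (a * e * a) := by group
        _ = (g * t) * (e * t) := by rw [hai, hgmove, h, hte]
        _ = g * ((e * t) * t) := by
            rw [mul_assoc g, hU.comm (hD.le htP) (mul_mem he (hD.le htP))]
        _ = g * e := by rw [mul_assoc e t t, hU.sq t (hD.le htP), mul_one]
    have h2 := hD.mem_P_of_cent hge (by
      calc g * e * a = a * (g * e) * a * a := by rw [h1]
        _ = a * (g * e) := by rw [mul_assoc _ a a, hD.inv, mul_one])
    have h3 := mul_mem (hD.le h2) (inv_mem he)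
    rwa [mul_inv_cancel_right] at h3

namespace Core

variable (hD : Data U P a) (c : Core U P a)
include hD

theorem P_cases {p : G} (hp : p ∈ P) : p = 1 ∨ p = c.t ∨ p = c.u₀ ∨ p = c.t * c.u₀ := by
  have h1 : c.t * c.u₀ ≠ 1 := fun h => c.u₀_ne.2 (by
    calc c.u₀ = c.t * (c.t * c.u₀) := by
          rw [← mul_assoc, hD.eight.sq _ (hD.le c.t_mem), one_mul]
      _ = c.t := by rw [h, mul_one])
  have h2 : c.t * c.u₀ ≠ c.t := fun h => c.u₀_ne.1 (mul_eq_left.1 h)
  have h3 : c.t * c.u₀ ≠ c.u₀ := fun h => c.t_ne (mul_eq_right.1 h)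
  have hsub : ({1, c.t, c.u₀, c.t * c.u₀} : Set G) ⊆ (P : Set G) := by
    rintro y (rfl | rfl | rfl | rfl)
    exacts [one_mem _, c.t_mem, c.u₀_mem, mul_mem c.t_mem c.u₀_mem]
  have hc4 : ({1, c.t, c.u₀, c.t * c.u₀} : Set G).ncard = 4 := by
    rw [Set.ncard_insert_of_notMem (by simp [Ne.symm c.t_ne, Ne.symm c.u₀_ne.1, Ne.symm h1]),
      Set.ncard_insert_of_notMem (by simp [Ne.symm c.u₀_ne.2, Ne.symm h2]),
      Set.ncard_insert_of_notMem (by simp [c.t_ne]), Set.ncard_singleton]
  have heq : ({1, c.t, c.u₀, c.t * c.u₀} : Set G) = (P : Set G) :=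
    Set.eq_of_subset_of_ncard_le hsub (by
      rw [hc4, ← Nat.card_coe_set_eq]; exact hD.card.le) (Set.toFinite _)
  have : p ∈ ({1, c.t, c.u₀, c.t * c.u₀} : Set G) := heq.symm ▸ hp
  simpa using this

/-- `a` moves the elements of `U` by `1` or `t`. -/
theorem U_move {u : G} (hu : u ∈ U) : a * u * a = u ∨ a * u * a = u * c.t := by
  rcases hD.coset c.e_mem c.e_notMem hu with h | h
  · left
    rw [hD.fix u h, mul_assoc, hD.inv, mul_one]
  · right
    have h1 := hD.fix _ h
    calc a * u * a = (a * c.e⁻¹ * a) * (a⁻¹ * (c.e * u) * a) := by group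
      _ = (c.e * c.t) * (a⁻¹ * (c.e * u) * a) := by
          rw [inv_eq_of_mul_eq_one_left (hD.eight.sq _ c.e_mem), c.t_eq]
      _ = (c.e * c.t) * (c.e * u) := by rw [mul_assoc a⁻¹, ← h1]; group
      _ = (c.e * u) * (c.e * c.t) :=
          hD.eight.comm (mul_mem c.e_mem (hD.le c.t_mem)) (mul_mem c.e_mem hu)
      _ = u * c.t := by
          rw [hD.eight.comm c.e_mem hu, mul_assoc u, ← mul_assoc c.e c.e, hD.eight.sq _ c.e_mem,
            one_mul]

/-- Elements fixed by `a` modulo `U`. -/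
theorem fixed_mod {x : G} (hxP : ∀ p ∈ P, x * p = p * x) (hx : phi a x ∈ U) :
    x ∈ U ∨ c.g⁻¹ * x ∈ U ∨ x * a ∈ U ∨ c.g⁻¹ * x * a ∈ U := by
  have hU := hD.eight
  have hai := hD.inv_eq
  have hxd : a * x * a = x * phi a x := by simp only [phi]; group
  have hd : phi a x ∈ P := by
    refine hD.mem_P_of_cent (hU.le_cent hx) ?_
    have h1 : a * phi a x * a = (phi a x)⁻¹ := by
      simp only [phi]
      calc a * (x⁻¹ * (a * x * a)) * a = a * x⁻¹ * a * x * (a * a) := by group
        _ = a⁻¹ * x⁻¹ * a⁻¹ * x := by rw [hD.inv, mul_one, hai]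
        _ = (x⁻¹ * (a * x * a))⁻¹ := by group
    calc phi a x * a = (a * phi a x * a) * a := by
          rw [h1, inv_eq_of_mul_eq_one_left (hU.sq _ hx)]
      _ = a * phi a x := by rw [mul_assoc _ a a, hD.inv, mul_one]
  -- `y ∈ C` with the same movement
  obtain ⟨y, hyC, hy, hyU⟩ : ∃ y ∈ centralizer (U : Set G), a * y * a = y * phi a x ∧
      (y ∈ U ∨ c.g⁻¹ * y ∈ U) := by
    rcases c.P_cases hD hd with h | h | h | h <;> rw [h]
    · exact ⟨1, one_mem _, by rw [mul_one, hD.inv, one_mul], Or.inl (one_mem _)⟩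
    · exact ⟨c.e, hU.le_cent c.e_mem, c.t_eq, Or.inl c.e_mem⟩
    · exact ⟨c.g, c.g_cent, c.g_move, Or.inr (by rw [inv_mul_cancel]; exact one_mem _)⟩
    · refine ⟨c.g * c.e, mul_mem c.g_cent (hU.le_cent c.e_mem), ?_,
        Or.inr (by rw [inv_mul_cancel_left]; exact c.e_mem)⟩
      have hce := mem_centralizer_iff.1 c.g_cent
      calc a * (c.g * c.e) * a = (a * c.g * a⁻¹) * (a * c.e * a) := by group
        _ = (c.g * c.u₀) * (c.e * c.t) := by rw [hai, c.g_move, c.t_eq]
        _ = c.g * ((c.e * c.t) * c.u₀) := by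
            rw [mul_assoc c.g, hU.comm (hD.le c.u₀_mem) (mul_mem c.e_mem (hD.le c.t_mem))]
        _ = c.g * c.e * (c.t * c.u₀) := by group
  have hyP : ∀ p ∈ P, x * y⁻¹ * p = p * (x * y⁻¹) := fun p hp => by
    have h1 := hD.comm_P (inv_mem hyC) hp
    rw [mul_assoc, h1, ← mul_assoc, hxP p hp, mul_assoc]
  have hfix : x * y⁻¹ * a = a * (x * y⁻¹) := by
    calc x * y⁻¹ * a = (a * a) * (x * y⁻¹ * a) := by rw [hD.inv, one_mul]
      _ = a * ((a * x * a⁻¹) * (a * y⁻¹ * a)) := by group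
      _ = a * ((x * phi a x) * (a⁻¹ * y⁻¹ * a⁻¹)) := by rw [hai, hxd]
      _ = a * ((x * phi a x) * (a * y * a)⁻¹) := by group
      _ = a * (x * y⁻¹) := by rw [hy]; group
  rcases hD.self _ hyP hfix with h | h
  · rcases hyU with hy' | hy'
    · left
      have := mul_mem (hD.le h) hy'
      rwa [inv_mul_cancel_right] at this
    · right; left
      have hgP : c.g⁻¹ * (x * y⁻¹) = (x * y⁻¹) * c.g⁻¹ := hD.comm_P (inv_mem c.g_cent) h
      have := mul_mem (hD.le h) hy'
      rw [← mul_assoc, ← hgP] at this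
      rwa [show c.g⁻¹ * (x * y⁻¹) * y = c.g⁻¹ * x by group] at this
  · -- then `x a ∈ U y^a`
    have hay : a * y * a ∈ centralizer (U : Set G) := by
      have := hU.cent_normal.conj_mem y hyC a
      rwa [hai] at this
    have hxa : x * a = (x * y⁻¹ * a) * (a * y * a) := by
      calc x * a = x * y⁻¹ * (a * a) * y * a := by rw [hD.inv]; group
        _ = _ := by group
    rcases hyU with hy' | hy'
    · right; right; left
      rw [hxa]
      refine mul_mem (hD.le h) ?_
      have := hU.normal.conj_mem y hy' a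
      rwa [hai] at this
    · right; right; right
      have hgP : c.g⁻¹ * (x * y⁻¹ * a) = (x * y⁻¹ * a) * c.g⁻¹ := hD.comm_P (inv_mem c.g_cent) h
      rw [mul_assoc, hxa, ← mul_assoc, hgP, mul_assoc]
      refine mul_mem (hD.le h) ?_
      rw [hy, ← mul_assoc]
      exact mul_mem hy' (hD.le hd)

/-- In `C`, only `U` and `g U` are fixed modulo `U`. -/
theorem fixed_mod_cent {x : G} (hx : x ∈ centralizer (U : Set G)) (hxd : phi a x ∈ U) :
    x ∈ U ∨ c.g⁻¹ * x ∈ U := by
  rcases c.fixed_mod hD (fun p hp => hD.comm_P hx hp) hxd with h | h | h | h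
  · exact Or.inl h
  · exact Or.inr h
  · exfalso
    have := mul_mem (inv_mem hx) (hD.eight.le_cent h)
    rw [inv_mul_cancel_left] at this
    exact hD.notC this
  · exfalso
    have := mul_mem (inv_mem (mul_mem (inv_mem c.g_cent) hx)) (hD.eight.le_cent h)
    rw [inv_mul_cancel_left] at this
    exact hD.notC this

/-- The square of `g` is central. -/
theorem sq_central (s : G) : s⁻¹ * (c.g * c.g) * s = c.g * c.g := by
  have hu := c.g_conj s
  set u := c.g⁻¹ * (s⁻¹ * c.g * s) with hud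
  have hgu : u * c.g = c.g * u := mem_centralizer_iff.1 c.g_cent u hu
  calc s⁻¹ * (c.g * c.g) * s = (s⁻¹ * c.g * s) * (s⁻¹ * c.g * s) := by group
    _ = (c.g * u) * (c.g * u) := by rw [hud]; group
    _ = c.g * (c.g * u) * u := by rw [mul_assoc c.g u, ← mul_assoc u, hgu]; group
    _ = c.g * c.g := by
        rw [← mul_assoc c.g c.g u, mul_assoc (c.g * c.g) u u, hD.eight.sq u hu, mul_one]

theorem sq_mem_P : c.g * c.g ∈ P := by
  refine hD.mem_P_of_cent (hD.eight.le_cent c.g_sq) ?_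
  have h := c.sq_central hD a
  rw [hD.inv_eq] at h
  calc c.g * c.g * a = a * (c.g * c.g) * a * a := by rw [h]
    _ = a * (c.g * c.g) := by rw [mul_assoc _ a a, hD.inv, mul_one]

/-- Either `C = U ∪ g U`, or the square of `g` is neither `1` nor `t`. -/
theorem small_or_good :
    (∀ x ∈ centralizer (U : Set G), x ∈ U ∨ c.g⁻¹ * x ∈ U) ∨
      (c.g * c.g ≠ 1 ∧ c.g * c.g ≠ c.t) := by
  by_contra hcon
  push Not at hcon
  obtain ⟨⟨x₀, hx₀, hx₀U, hx₀g⟩, hw⟩ := hcon
  haveI : Fact (Nat.Prime 2) := ⟨Nat.prime_two⟩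
  have hU := hD.eight
  haveI := hU.normal
  haveI := hU.cent_normal
  have hai := hD.inv_eq
  -- the subgroup `U ∪ g U`
  let K : Subgroup G :=
    { carrier := {x | x ∈ U ∨ c.g⁻¹ * x ∈ U}
      one_mem' := Or.inl (one_mem U)
      mul_mem' := by
        rintro x y (hx | hx) (hy | hy)
        · exact Or.inl (mul_mem hx hy)
        · refine Or.inr ?_
          have h1 := hU.conj_mem hx c.g
          have h2 := mul_mem h1 hy
          rwa [show c.g⁻¹ * x * c.g * (c.g⁻¹ * y) = c.g⁻¹ * (x * y) by group] at h2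
        · refine Or.inr ?_
          rw [← mul_assoc]
          exact mul_mem hx hy
        · refine Or.inl ?_
          have h1 := hU.conj_mem hx c.g
          have h2 := mul_mem (mul_mem c.g_sq h1) hy
          rwa [show c.g * c.g * (c.g⁻¹ * (c.g⁻¹ * x) * c.g) * (c.g⁻¹ * y) = x * y by group] at h2
      inv_mem' := by
        rintro x (hx | hx)
        · exact Or.inl (inv_mem hx)
        · refine Or.inr ?_
          have h1 := hU.conj_mem (inv_mem hx) c.g
          have h2 := mul_mem h1 (inv_mem c.g_sq)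
          have h3 : c.g⁻¹ * x⁻¹ = c.g⁻¹ * (c.g⁻¹ * x)⁻¹ * c.g * (c.g * c.g)⁻¹ := by group
          rw [h3]; exact h2 }
  haveI hKn : K.Normal := by
    refine ⟨fun x hx s => ?_⟩
    rcases hx with hx | hx
    · exact Or.inl (hU.normal.conj_mem x hx s)
    · refine Or.inr ?_
      have h1 := c.g_conj s⁻¹
      rw [inv_inv] at h1
      have h2 := mul_mem h1 (hU.normal.conj_mem _ hx s)
      rwa [show c.g⁻¹ * (s * c.g * s⁻¹) * (s * (c.g⁻¹ * x) * s⁻¹) = c.g⁻¹ * (s * x * s⁻¹) by
        group] at h2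
  have hlt : K < centralizer (U : Set G) := by
    refine lt_of_le_of_ne ?_ fun h => ?_
    · rintro x (hx | hx)
      · exact hU.le_cent hx
      · have := mul_mem c.g_cent (hU.le_cent hx)
        rwa [mul_inv_cancel_left] at this
    · rcases (h.symm ▸ hx₀ : x₀ ∈ K) with h' | h'
      exacts [hx₀U h', hx₀g h']
  obtain ⟨K₂, -, hKK, hK₂C, hK₂c, hK₂z⟩ := PLemmas.exists_normal_step hU.pg hlt
  obtain ⟨x, hx, hxK⟩ : ∃ x ∈ K₂, x ∉ K := by
    by_contra hc
    push Not at hc
    have := card_le_of_le (show K₂ ≤ K from hc)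
    have hpos : 0 < Nat.card K := Nat.card_pos
    omega
  have hd : phi a x ∈ K := by
    have h := hK₂z a x hx
    rw [commutatorElement_def, hai] at h
    have h2 := hKn.conj_mem _ h x⁻¹
    rw [inv_inv] at h2
    have : phi a x = x⁻¹ * (a * x * a * x⁻¹) * x := by simp only [phi]; group
    rw [this]; exact h2
  rcases hd with hd | hd
  · exact hxK (c.fixed_mod_cent hD (hK₂C hx) hd)
  set h := phi a x with hh
  set u := c.g⁻¹ * h with hu
  have hgu : u * c.g = c.g * u := mem_centralizer_iff.1 c.g_cent u hd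
  have hinvh : a * h * a = h⁻¹ := by
    rw [hh]; simp only [phi]
    calc a * (x⁻¹ * (a * x * a)) * a = a * x⁻¹ * a * x * (a * a) := by group
      _ = a⁻¹ * x⁻¹ * a⁻¹ * x := by rw [hD.inv, mul_one, hai]
      _ = (x⁻¹ * (a * x * a))⁻¹ := by group
  have hh' : h = c.g * u := by rw [hu]; group
  have h1 : a * h * a = c.g * (c.u₀ * (a * u * a)) := by
    calc a * h * a = (a * c.g * a⁻¹) * (a * u * a) := by rw [hh']; group
      _ = c.g * (c.u₀ * (a * u * a)) := by rw [hai, c.g_move, mul_assoc]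
  have hgw : c.g⁻¹ = c.g * (c.g * c.g) := by
    have h4 : (c.g * c.g) * (c.g * c.g) = 1 := hU.sq _ c.g_sq
    exact inv_eq_of_mul_eq_one_left (by rw [mul_assoc, mul_assoc] at *; exact h4)
  have h2 : h⁻¹ = c.g * ((c.g * c.g) * u) := by
    rw [hh', mul_inv_rev, inv_eq_of_mul_eq_one_left (hU.sq u hd)]
    calc u * c.g⁻¹ = c.g⁻¹ * u :=
          ((show Commute u c.g from hgu).inv_right).eq
      _ = c.g * ((c.g * c.g) * u) := by rw [hgw, mul_assoc]
  rw [h1, h2, mul_right_inj] at hinvh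
  have hw' : c.g * c.g = c.u₀ ∨ c.g * c.g = c.u₀ * c.t := by
    rcases c.U_move hD hd with hm | hm <;> rw [hm] at hinvh
    · exact Or.inl (mul_right_cancel hinvh).symm
    · right
      rw [hU.comm hd (hD.le c.t_mem), ← mul_assoc] at hinvh
      exact (mul_right_cancel hinvh).symm
  rcases hw' with h3 | h3
  · exact c.u₀_ne.2 (h3.symm.trans (hw (h3 ▸ c.u₀_ne.1)))
  · have hne1 : c.u₀ * c.t ≠ 1 := fun h4 => c.u₀_ne.2
      (by rw [mul_eq_one_iff_eq_inv] at h4; rw [h4, inv_eq_of_mul_eq_one_left (hU.sq _ (hD.le c.t_mem))])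
    exact c.u₀_ne.1 (mul_eq_right.1 (h3.symm.trans (hw (h3 ▸ hne1))))

end Core

end Cfsg.Agent.Lib.HaradaEight
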