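import Mathlib
import Cfsg.Agent.Lib.HaradaEight.Core
import Cfsg.Agent.Lib.MaxClass.SmallCentralizer

/-!
The centraliser `L` of `P`: how it moves `e`, and its subgroup `K` of index two with cyclic image
modulo `U`.
-/

set_option autoImplicit false

namespace Cfsg.Agent.Lib.HaradaEight

open Subgroup

universe u

variable {G : Type u} [Group G] [Finite G] {U P : Subgroup G} {a : G}

namespace Core

variable (hD : Data U P a) (c : Core U P a)
include hD

theorem comm_of_mem_L {x : G} (hx : x ∈ centralizer (P : Set G)) :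
    ∀ p ∈ P, x * p = p * x := fun p hp => (mem_centralizer_iff.1 hx p hp).symm

theorem cent_le_L : centralizer (U : Set G) ≤ centralizer (P : Set G) :=
  centralizer_le hD.le

theorem a_mem_L : a ∈ centralizer (P : Set G) :=
  mem_centralizer_iff.2 fun p hp => (hD.fix p hp).symm

theorem conj_P {x : G} (hx : x ∈ centralizer (P : Set G)) {p : G} (hp : p ∈ P) :
    x⁻¹ * p * x = p := by
  rw [mul_assoc, mem_centralizer_iff.1 hx p hp, inv_mul_cancel_left]

/-- `e ^ x = e * c.disp x`. -/
def disp (x : G) : G := c.e * (x⁻¹ * c.e * x)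

theorem conj_e (x : G) : x⁻¹ * c.e * x = c.e * c.disp x := by
  rw [disp, ← mul_assoc c.e, hD.eight.sq _ c.e_mem, one_mul]

theorem disp_mem {x : G} (hx : x ∈ centralizer (P : Set G)) : c.disp x ∈ P :=
  hD.move_mem c.e_mem c.e_notMem (comm_of_mem_L hD hx)

theorem disp_mul {x y : G} (hx : x ∈ centralizer (P : Set G))
    (hy : y ∈ centralizer (P : Set G)) : c.disp (x * y) = c.disp x * c.disp y := by
  have hxP := c.disp_mem hD hx
  calc c.disp (x * y) = c.e * (y⁻¹ * (x⁻¹ * c.e * x) * y) := by rw [disp]; group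
    _ = c.e * (y⁻¹ * c.e * y) * (y⁻¹ * c.disp x * y) := by rw [c.conj_e hD]; group
    _ = c.disp y * c.disp x := by rw [conj_P hD hy hxP]; rfl
    _ = c.disp x * c.disp y :=
        hD.eight.comm (hD.le (c.disp_mem hD hy)) (hD.le hxP)

/-- The displacement as a homomorphism. -/
def dispHom : centralizer (P : Set G) →* G :=
  MonoidHom.mk' (fun x => c.disp x) fun x y => c.disp_mul hD x.2 y.2

theorem disp_zpow {x : G} (hx : x ∈ centralizer (P : Set G)) (j : ℤ) :
    c.disp (x ^ j) = c.disp x ^ j :=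
  (map_zpow (c.dispHom hD) ⟨x, hx⟩ j :)

theorem disp_of_mem_cent {x : G} (hx : x ∈ centralizer (U : Set G)) : c.disp x = 1 := by
  rw [disp, mul_assoc x⁻¹, mem_centralizer_iff.1 hx c.e c.e_mem, inv_mul_cancel_left,
    hD.eight.sq _ c.e_mem]

theorem disp_a : c.disp a = c.t := by
  rw [disp, hD.inv_eq, c.t_eq, ← mul_assoc, hD.eight.sq _ c.e_mem, one_mul]

theorem mem_cent_of_disp {x : G} (hx : x ∈ centralizer (P : Set G)) (h : c.disp x = 1) :
    x ∈ centralizer (U : Set G) := by
  have he : c.e * x = x * c.e := by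
    calc c.e * x = x * (x⁻¹ * c.e * x) := by group
      _ = x * c.e := by rw [c.conj_e hD, h, mul_one]
  refine mem_centralizer_iff.2 fun u hu => ?_
  rcases hD.coset c.e_mem c.e_notMem hu with h1 | h1
  · exact mem_centralizer_iff.1 hx u h1
  · have h2 := mem_centralizer_iff.1 hx _ h1
    refine mul_left_cancel (a := c.e) ?_
    rw [← mul_assoc, h2, ← mul_assoc x, ← he, mul_assoc]

/-- The subgroup of index two of `L` with cyclic image modulo `U`. -/
structure CyclicPart (K : Subgroup G) : Prop where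
  le : K ≤ centralizer (P : Set G)
  U_le : U ≤ K
  g_mem : c.g ∈ K
  a_notMem : a ∉ K
  gen : ∃ x₀ ∈ K, ∀ x ∈ K, ∃ j : ℤ, (x₀ ^ j)⁻¹ * x ∈ U
  index : ∀ x ∈ centralizer (P : Set G), x ∈ K ∨ a * x ∈ K
  unique : ∀ x ∈ K, x * x ∈ U → x ∈ U ∨ c.g⁻¹ * x ∈ U

theorem exists_cyclicPart : ∃ K : Subgroup G, c.CyclicPart K := by
  classical
  haveI : Fact (Nat.Prime 2) := ⟨Nat.prime_two⟩
  have hU := hD.eight
  haveI := hU.normal
  have hai := hD.inv_eq
  have hgC := c.g_cent
  set L := centralizer (P : Set G) with hL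
  let π : G →* G ⧸ U := QuotientGroup.mk' U
  have hker : ∀ x : G, π x = 1 ↔ x ∈ U := fun x => QuotientGroup.eq_one_iff x
  have hπeq : ∀ x y : G, π x = π y ↔ x⁻¹ * y ∈ U := fun x y => QuotientGroup.eq
  have hgL : c.g ∈ L := cent_le_L hD hgC
  have haL : a ∈ L := a_mem_L hD
  have hgz : ∀ x : G, π c.g * π x = π x * π c.g := fun x => by
    rw [← map_mul, ← map_mul, eq_comm, hπeq]
    convert c.g_conj x using 1
    group
  let g' : L.map π := ⟨π c.g, mem_map_of_mem π hgL⟩
  let a' : L.map π := ⟨π a, mem_map_of_mem π haL⟩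
  have haU : a ∉ U := hD.a_notMem
  have hgne : g' ≠ 1 := fun h => c.g_notMem ((hker _).1 (congrArg Subtype.val h))
  have hane : a' ≠ 1 := fun h => haU ((hker _).1 (congrArg Subtype.val h))
  have hga : g' ≠ a' := fun h => hD.notC (by
    have h1 := (hπeq _ _).1 (congrArg Subtype.val h)
    have h2 := mul_mem hgC (hU.le_cent h1)
    rwa [mul_inv_cancel_left] at h2)
  have haa : a' * a' = 1 := Subtype.ext (by
    show π a * π a = 1
    rw [← map_mul, hD.inv, map_one])
  have hgg : g' * g' = 1 := Subtype.ext (by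
    show π c.g * π c.g = 1
    rw [← map_mul]; exact (hker _).2 c.g_sq)
  have ha2 : orderOf a' = 2 := orderOf_eq_prime (by rw [pow_two, haa]) hane
  have hg2 : orderOf g' = 2 := orderOf_eq_prime (by rw [pow_two, hgg]) hgne
  have hgzL : ∀ y : L.map π, g' * y = y * g' := by
    rintro ⟨y, x, hx, rfl⟩
    exact Subtype.ext (hgz x)
  -- the centraliser of the image of `a`
  set D := centralizer ({a'} : Set (L.map π)) with hDdef
  have hsub : (D : Set (L.map π)) ⊆ {1, g', a', g' * a'} := by
    rintro ⟨y, x, hx, rfl⟩ hy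
    have hy' : π x * π a = π a * π x :=
      congrArg Subtype.val (mem_centralizer_singleton_iff.1 hy)
    have hphi : phi a x ∈ U := by
      have : π (phi a x) = 1 := by
        simp only [phi, map_mul, map_inv]
        rw [← hy', mul_assoc (π x) (π a), ← map_mul π a a, hD.inv, map_one, mul_one,
          inv_mul_cancel]
      exact (hker _).1 this
    simp only [Set.mem_insert_iff, Set.mem_singleton_iff]
    rcases c.fixed_mod hD (comm_of_mem_L hD hx) hphi with h | h | h | h
    · exact Or.inl (Subtype.ext ((hker _).2 h))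
    · exact Or.inr (Or.inl (Subtype.ext ((hπeq _ _).2 h).symm))
    · refine Or.inr (Or.inr (Or.inl (Subtype.ext ?_)))
      show π x = π a
      have h1 : π x * π a = 1 := by rw [← map_mul]; exact (hker _).2 h
      rw [mul_eq_one_iff_eq_inv.1 h1, ← map_inv, hai]
    · refine Or.inr (Or.inr (Or.inr (Subtype.ext ?_)))
      show π x = π c.g * π a
      rw [mul_assoc] at h
      have h1 : π c.g = π (x * a) := (hπeq _ _).2 h
      rw [h1, map_mul, mul_assoc, ← map_mul π a a, hD.inv, map_one, mul_one]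
  have hD4 : Nat.card D = 4 := by
    refine MaxClass.card_eq_four_of_card_le (p := 2)
      (((hU.pg.to_quotient U).to_subgroup (L.map π)).to_subgroup D) rfl ?_ ?_
    · rw [← SetLike.coe_sort_coe, Nat.card_coe_set_eq]
      refine (Set.ncard_le_ncard hsub (Set.toFinite _)).trans ?_
      refine (Set.ncard_insert_le _ _).trans ?_
      have : ({g', a', g' * a'} : Set (L.map π)).ncard ≤ 3 :=
        (Set.ncard_insert_le _ _).trans (by
          have := Set.ncard_insert_le a' ({g' * a'} : Set (L.map π))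
          rw [Set.ncard_singleton] at this
          omega)
      omega
    · have h3 : ({1, g', a'} : Set (L.map π)).ncard = 3 :=
        Set.ncard_eq_three.2 ⟨1, g', a', Ne.symm hgne, Ne.symm hane, hga, rfl⟩
      have hle : ({1, g', a'} : Set (L.map π)) ⊆ (D : Set (L.map π)) := by
        rintro y (rfl | rfl | rfl)
        exacts [one_mem _, mem_centralizer_singleton_iff.2 (hgzL a'),
          mem_centralizer_singleton_iff.2 rfl]
      have := Set.ncard_le_ncard hle (Set.toFinite _)
      rw [h3, ← Nat.card_coe_set_eq] at this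
      exact this
  -- a cyclic subgroup of index two through `g'`
  obtain ⟨cb, hidx, hacb, hgcb⟩ : ∃ cb : L.map π, (zpowers cb).index = 2 ∧
      a' ∉ zpowers cb ∧ g' ∈ zpowers cb := by
    by_cases h4 : Nat.card (L.map π) = 4
    · refine ⟨g', ?_, fun h => ?_, mem_zpowers g'⟩
      · have h1 := (zpowers g').card_mul_index
        rw [Nat.card_zpowers, hg2, h4] at h1
        omega
      · obtain ⟨j, hj⟩ := mem_zpowers_iff.1 h
        rcases Int.even_or_odd j with ⟨i, rfl⟩ | ⟨i, rfl⟩
        · rw [← two_mul, zpow_mul, zpow_two, hgg, one_zpow] at hj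
          exact hane hj.symm
        · rw [zpow_add_one, zpow_mul, zpow_two, hgg, one_zpow, one_mul] at hj
          exact hga hj
    rcases MaxClass.hasReflection_or_card_eq_four _ (L.map π) rfl
      ((hU.pg.to_quotient U).to_subgroup (L.map π)) a' ha2 hD4 with h | h
    swap
    · exact absurd h h4
    obtain ⟨n, cb, hcb, hcard, hacb, -⟩ := h
    have hidx : (zpowers cb).index = 2 := by
      have h1 := (zpowers cb).card_mul_index
      rw [Nat.card_zpowers, hcb, hcard, pow_succ] at h1
      exact Nat.eq_of_mul_eq_mul_left (by positivity) h1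
    refine ⟨cb, hidx, hacb, ?_⟩
    by_contra hg
    have hmem : g' * a' ∈ zpowers cb :=
      (mul_mem_iff_of_index_two hidx).2 ⟨fun h => absurd h hg, fun h => absurd h hacb⟩
    obtain ⟨j, hj⟩ := mem_zpowers_iff.1 hmem
    have hac : cb * a' = a' * cb := by
      have h1 : (g' * a') * cb = cb * (g' * a') := by
        rw [← hj]; exact (Commute.zpow_self cb j).eq
      rw [mul_assoc, ← mul_assoc cb, ← hgzL cb, mul_assoc] at h1
      exact (mul_left_cancel h1).symm
    have htop : ∀ y : L.map π, y * a' = a' * y := by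
      intro y
      have hz : ∀ w ∈ zpowers cb, w * a' = a' * w := by
        rintro w ⟨i, rfl⟩
        exact ((show Commute cb a' from hac).zpow_left i).eq
      by_cases hy : y ∈ zpowers cb
      · exact hz y hy
      have h1 : a' * y ∈ zpowers cb :=
        (mul_mem_iff_of_index_two hidx).2 ⟨fun h => absurd h hacb, fun h => absurd h hy⟩
      have h2 := hz _ h1
      rw [mul_assoc] at h2
      exact mul_left_cancel h2
    refine h4 ?_
    rw [← hD4, hDdef, show centralizer ({a'} : Set (L.map π)) = ⊤ from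
      eq_top_iff.2 fun y _ => mem_centralizer_singleton_iff.2 (htop y), card_top]
  -- pull back
  have hcoe : ∀ {x : G} (hx : x ∈ L), π x ∈ zpowers (cb : G ⧸ U) ↔
      (⟨π x, mem_map_of_mem π hx⟩ : L.map π) ∈ zpowers cb := by
    intro x hx
    simp only [mem_zpowers_iff, Subtype.ext_iff, SubgroupClass.coe_zpow]
  have hleL : (zpowers (cb : G ⧸ U)).comap π ≤ L := by
    intro x hx
    obtain ⟨y, hy, hyx⟩ := (zpowers_le.2 cb.2 hx : π x ∈ L.map π)
    have h1 := (hπeq _ _).1 hyx
    have := mul_mem hy (cent_le_L hD (hU.le_cent h1))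
    rwa [mul_inv_cancel_left] at this
  refine ⟨(zpowers (cb : G ⧸ U)).comap π, hleL, ?_, ?_, ?_, ?_, ?_, ?_⟩
  · intro x hx
    show π x ∈ zpowers (cb : G ⧸ U)
    rw [(hker x).2 hx]
    exact one_mem _
  · exact (hcoe hgL).2 hgcb
  · exact fun h => hacb ((hcoe haL).1 h)
  · obtain ⟨x₀, hx₀, hx₀e⟩ := cb.2
    refine ⟨x₀, mem_comap.2 (by rw [hx₀e]; exact mem_zpowers _), fun x hx => ?_⟩
    obtain ⟨j, hj⟩ := mem_zpowers_iff.1 (show π x ∈ zpowers (cb : G ⧸ U) from hx)
    refine ⟨j, (hπeq _ _).1 ?_⟩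
    rw [map_zpow, hx₀e, hj]
  · intro x hx
    by_cases h : π x ∈ zpowers (cb : G ⧸ U)
    · exact Or.inl h
    refine Or.inr ((hcoe (mul_mem haL hx)).2 ?_)
    have hx' : (⟨π x, mem_map_of_mem π hx⟩ : L.map π) ∉ zpowers cb := fun h' => h ((hcoe hx).2 h')
    have h1 : a' * ⟨π x, mem_map_of_mem π hx⟩ ∈ zpowers cb :=
      (mul_mem_iff_of_index_two hidx).2 ⟨fun h => absurd h hacb, fun h' => absurd h' hx'⟩
    convert h1 using 1
    exact Subtype.ext (map_mul π a x)
  · intro x hx hxx
    by_cases hxU : x ∈ U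
    · exact Or.inl hxU
    right
    refine (hπeq _ _).1 ?_
    obtain ⟨i, hi⟩ := mem_zpowers_iff.1 (show π x ∈ zpowers (cb : G ⧸ U) from hx)
    obtain ⟨j, hj⟩ := mem_zpowers_iff.1 ((hcoe hgL).2 hgcb)
    have hxx' : π x * π x = 1 := by rw [← map_mul]; exact (hker _).2 hxx
    have hgg' : π c.g * π c.g = 1 := congrArg Subtype.val hgg
    have key : ∀ {z : G ⧸ U} {k : ℤ}, (cb : G ⧸ U) ^ k = z → z * z = 1 → z ≠ 1 →
        ∃ p : ℤ, 2 * k = (orderOf (cb : G ⧸ U) : ℤ) * p ∧ Odd p := by
      intro z k hk hz hz1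
      have h1 : (orderOf (cb : G ⧸ U) : ℤ) ∣ 2 * k := by
        rw [orderOf_dvd_iff_zpow_eq_one, mul_comm, zpow_mul, hk, zpow_two, hz]
      obtain ⟨p, hp⟩ := h1
      refine ⟨p, hp, ?_⟩
      rcases Int.even_or_odd p with ⟨r, hr⟩ | hodd
      · exfalso
        refine hz1 ?_
        rw [← hk, ← orderOf_dvd_iff_zpow_eq_one]
        exact ⟨r, by subst hr; linarith⟩
      · exact hodd
    obtain ⟨p, hp, hpo⟩ := key hi hxx' fun h => hxU ((hker _).1 h)
    obtain ⟨q, hq, hqo⟩ := key hj hgg' fun h => c.g_notMem ((hker _).1 h)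
    obtain ⟨r, hr⟩ := hpo.sub_odd hqo
    have hdvd : (orderOf (cb : G ⧸ U) : ℤ) ∣ i - j := ⟨r, by
      have : (orderOf (cb : G ⧸ U) : ℤ) * (p - q) = 2 * i - 2 * j := by rw [hp, hq]; ring
      rw [hr] at this
      linarith⟩
    rw [orderOf_dvd_iff_zpow_eq_one, zpow_sub, mul_inv_eq_one] at hdvd
    rw [← hi, ← hj, hdvd]

omit hD [Finite G] in
/-- `K` is normal in `L`. -/
theorem CyclicPart.conj_mem {K : Subgroup G} (hK : c.CyclicPart K) {x : G}
    (hx : x ∈ centralizer (P : Set G)) {k : G} (hk : k ∈ K) :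
    x * k * x⁻¹ ∈ K := by
  have hidx : ∀ {y : G}, y ∈ centralizer (P : Set G) → y ∉ K → a * y ∈ K := fun hy hn =>
    (hK.index _ hy).resolve_left hn
  by_cases hxK : x ∈ K
  · exact mul_mem (mul_mem hxK hk) (inv_mem hxK)
  by_contra hn
  have h1 := hidx (mul_mem (mul_mem hx (hK.le hk)) (inv_mem hx)) hn
  have h2 := mul_mem (mul_mem (inv_mem (hidx hx hxK)) h1) (hidx hx hxK)
  rw [show (a * x)⁻¹ * (a * (x * k * x⁻¹)) * (a * x) = k * (x⁻¹ * a * x) by group] at h2
  have h3 := mul_mem (inv_mem hk) h2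
  rw [inv_mul_cancel_left] at h3
  have h4 := mul_mem (mul_mem (hidx hx hxK) h3) (inv_mem (hidx hx hxK))
  rw [show a * x * (x⁻¹ * a * x) * (a * x)⁻¹ = a by group] at h4
  exact hK.a_notMem h4

end Core

end Cfsg.Agent.Lib.HaradaEight
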