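import Mathlib
import Cfsg.Agent.Lib.HaradaEight.Move

/-!
The case in which `g ^ 2` is a second central element of `P`.
-/

set_option autoImplicit false

namespace Cfsg.Agent.Lib.HaradaEight

open Subgroup
open Cfsg.Agent.Lib.SectRank

universe u

variable {G : Type u} [Group G] [Finite G] {U P : Subgroup G} {a : G}

omit [Finite G] in
/-- Restricting a section to a subgroup of `H`. -/
theorem section_restrict {H N K : Subgroup G} (h : IsElemSection 2 N H) (hK : K ≤ H) :
    IsElemSection 2 (N ⊓ K) K where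
  le := inf_le_right
  comm x hx y hy := ⟨h.comm x (hK hx) y (hK hy),
    K.mul_mem (K.mul_mem (K.mul_mem hx hy) (K.inv_mem hx)) (K.inv_mem hy)⟩
  pow x hx := ⟨h.pow x (hK hx), pow_mem hx 2⟩

omit [Finite G] in
/-- `[x, h] ∈ N` in the form `x * x ^ h`, for `x` of order two. -/
theorem mul_conj_mem {H N : Subgroup G} (h : IsElemSection 2 N H) {x y : G} (hx : x ∈ H)
    (hy : y ∈ H) (hx2 : x * x = 1) : x * (y⁻¹ * x * y) ∈ N := by
  have hm := h.comm x hx y⁻¹ (inv_mem hy)
  rw [inv_eq_of_mul_eq_one_left hx2, inv_inv] at hm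
  simpa [mul_assoc] using hm

theorem cases_three {n : ℕ} {c : ℕ} (h : n ∣ 2 ^ c) (h8 : n ≤ 8) : n ≤ 4 ∨ n = 8 := by
  by_cases h4 : n ≤ 4
  · exact Or.inl h4
  · have := pow_two_dvd_le (b := 2) h (by omega)
    exact Or.inr (le_antisymm h8 (by simpa using this))

theorem le_of_relIndex_eq_one {H M : Subgroup G} (h : M.relIndex H = 1) : H ≤ M :=
  relIndex_eq_one.1 h

namespace Core

variable (hD : Data U P a) (c : Core U P a)
include hD

theorem P_cases' {n : G} (hn : n ∈ P) (hn1 : n ≠ 1) (hnt : n ≠ c.t) {p : G} (hp : p ∈ P) :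
    p = 1 ∨ p = c.t ∨ p = n ∨ p = c.t * n := by
  have hU := hD.eight
  have htt := hU.sq _ (hD.le c.t_mem)
  rcases c.P_cases hD hn with rfl | rfl | rfl | rfl
  · exact absurd rfl hn1
  · exact absurd rfl hnt
  · exact c.P_cases hD hp
  · rw [← mul_assoc, htt, one_mul]
    rcases c.P_cases hD hp with h | h | h | h
    exacts [Or.inl h, Or.inr (Or.inl h), Or.inr (Or.inr (Or.inr h)), Or.inr (Or.inr (Or.inl h))]

/-- A second central element makes `P` normal. -/
theorem P_normal {n : G} (hn : n ∈ P) (hn1 : n ≠ 1) (hnt : n ≠ c.t)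
    (hnc : ∀ s : G, s⁻¹ * n * s = n) : P.Normal := by
  have hU := hD.eight
  obtain ⟨f⟩ := hU.exists_flag
  by_cases hPP : f.P = P
  · exact hPP ▸ f.P_normal
  obtain ⟨q, hq, hqP⟩ : ∃ q ∈ f.P, q ∉ P := by
    by_contra hc
    push Not at hc
    exact hPP (eq_of_le_of_card_ge hc (by rw [f.P_card, hD.card]))
  have hqt : a * q * a = q * c.t := by
    refine (c.U_move hD (f.P_le hq)).resolve_left fun h => hqP ?_
    refine hD.mem_P_of_cent (hU.le_cent (f.P_le hq)) ?_
    calc q * a = (a * q * a) * a := by rw [h]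
      _ = a * q := by rw [mul_assoc _ a a, hD.inv, mul_one]
  have hqz : a * q * a = q ∨ a * q * a = q * f.z := by
    have hz1 : a * f.z * a = f.z := by rw [← f.z_central a, mul_assoc, hD.inv, mul_one]
    rcases f.P_cases q hq with h | h | h | h <;> rw [h]
    · left; rw [mul_one, hD.inv]
    · exact Or.inl hz1
    · have := f.q_conj a
      rwa [hD.inv_eq] at this
    · rcases f.q_conj a with h1 | h1 <;> rw [hD.inv_eq] at h1
      · left
        calc a * (f.q * f.z) * a = (a * f.q * a⁻¹) * (a * f.z * a) := by group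
          _ = f.q * f.z := by rw [hD.inv_eq, h1, hz1]
      · right
        calc a * (f.q * f.z) * a = (a * f.q * a⁻¹) * (a * f.z * a) := by group
          _ = f.q * f.z * f.z := by rw [hD.inv_eq, h1, hz1]
  have htz : c.t = f.z := by
    rcases hqz with h | h
    · exact absurd (mul_eq_left.1 (hqt.symm.trans h)) c.t_ne
    · exact mul_left_cancel (hqt.symm.trans h)
  have htc : ∀ s : G, s⁻¹ * c.t * s = c.t := fun s => by
    rw [htz, mul_assoc, f.z_central s, inv_mul_cancel_left]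
  refine ⟨fun p hp s => ?_⟩
  have h1 : s * p * s⁻¹ = p := by
    have key : ∀ x : G, (∀ s : G, s⁻¹ * x * s = x) → s * x * s⁻¹ = x := fun x hx => by
      have := hx s⁻¹
      rwa [inv_inv] at this
    rcases c.P_cases' hD hn hn1 hnt hp with rfl | rfl | rfl | rfl
    · group
    · exact key _ htc
    · exact key _ hnc
    · refine key _ fun s => ?_
      calc s⁻¹ * (c.t * n) * s = (s⁻¹ * c.t * s) * (s⁻¹ * n * s) := by group
        _ = c.t * n := by rw [htc, hnc]
  rw [h1]; exact hp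

/-- The index of `L` is at most two. -/
theorem L_index [P.Normal] {n : G} (hn : n ∈ P) (hn1 : n ≠ 1) (hnt : n ≠ c.t)
    (hnc : ∀ s : G, s⁻¹ * n * s = n) :
    (centralizer (P : Set G)).index ≤ 2 ∧ ∀ s : G, s ∉ centralizer (P : Set G) →
      s⁻¹ * c.t * s = c.t * n := by
  have hcase : ∀ s : G, s⁻¹ * c.t * s = c.t ∨ s⁻¹ * c.t * s = c.t * n := by
    intro s
    have hm : s⁻¹ * c.t * s ∈ P := by
      have := (inferInstance : P.Normal).conj_mem _ c.t_mem s⁻¹
      rwa [inv_inv] at this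
    rcases c.P_cases' hD hn hn1 hnt hm with h | h | h | h
    · refine absurd ?_ c.t_ne
      calc c.t = s * (s⁻¹ * c.t * s) * s⁻¹ := by group
        _ = 1 := by rw [h]; group
    · exact Or.inl h
    · refine absurd ?_ hnt
      calc n = s * (s⁻¹ * n * s) * s⁻¹ := by group
        _ = s * (s⁻¹ * c.t * s) * s⁻¹ := by rw [hnc, h]
        _ = c.t := by group
    · exact Or.inr h
  have hmem : ∀ s : G, s⁻¹ * c.t * s = c.t → s ∈ centralizer (P : Set G) := by
    intro s hs
    refine mem_centralizer_iff.2 fun p hp => ?_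
    have hp' : s⁻¹ * p * s = p := by
      rcases c.P_cases' hD hn hn1 hnt hp with rfl | rfl | rfl | rfl
      · group
      · exact hs
      · exact hnc s
      · calc s⁻¹ * (c.t * n) * s = (s⁻¹ * c.t * s) * (s⁻¹ * n * s) := by group
          _ = c.t * n := by rw [hs, hnc]
    calc p * s = s * (s⁻¹ * p * s) := by group
      _ = s * p := by rw [hp']
  have hout : ∀ s : G, s ∉ centralizer (P : Set G) → s⁻¹ * c.t * s = c.t * n :=
    fun s hs => (hcase s).resolve_left fun h => hs (hmem s h)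
  refine ⟨?_, hout⟩
  classical
  rw [index_eq_card]
  refine (Nat.card_le_card_of_injective
    (fun x : G ⧸ centralizer (P : Set G) =>
      decide ((Quotient.out x)⁻¹⁻¹ * c.t * (Quotient.out x)⁻¹ = c.t)) fun x y hxy => ?_).trans
    (by simp)
  rw [← Quotient.out_eq x, ← Quotient.out_eq y]
  refine QuotientGroup.eq.2 (hmem _ ?_)
  set i := Quotient.out x with hi
  set j := Quotient.out y with hj
  simp only [inv_inv, decide_eq_decide] at hxy
  have h0 : i * c.t * i⁻¹ = j * c.t * j⁻¹ := by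
    rcases hcase i⁻¹ with h1 | h1 <;> rcases hcase j⁻¹ with h2 | h2 <;>
      rw [inv_inv] at h1 h2
    · rw [h1, h2]
    · rw [h1]; exact (hxy.1 h1).symm
    · rw [h2]; exact hxy.2 h2
    · rw [h1, h2]
  calc (i⁻¹ * j)⁻¹ * c.t * (i⁻¹ * j) = j⁻¹ * (i * c.t * i⁻¹) * j := by group
    _ = c.t := by rw [h0]; group

/-- Outside `L` forces the elements moving `e` by `n` into `K`. -/
theorem mem_K_of_disp [P.Normal] {n : G} (hn : n ∈ P) (hn1 : n ≠ 1) (hnt : n ≠ c.t)
    (hnc : ∀ s : G, s⁻¹ * n * s = n) {K : Subgroup G} (hK : c.CyclicPart K) {s : G}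
    (hs : s ∉ centralizer (P : Set G)) {l : G} (hl : l ∈ centralizer (P : Set G))
    (hd : c.disp l = 1 ∨ c.disp l = n) : l ∈ K := by
  have hU := hD.eight
  haveI := hU.normal
  have haL := a_mem_L hD
  have hCL := cent_le_L hD
  have hst := (c.L_index hD hn hn1 hnt hnc).2 s hs
  -- the conjugate of `a`
  set b := s⁻¹ * a * s with hb
  have hbL : b ∈ centralizer (P : Set G) := by
    have := (normal_centralizer (H := P)).conj_mem a haL s⁻¹
    rwa [inv_inv] at this
  have hfP : s⁻¹ * c.e * s ∉ P := fun h => c.e_notMem (by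
    have := (inferInstance : P.Normal).conj_mem _ h s
    simpa [mul_assoc] using this)
  have hfU : s⁻¹ * c.e * s ∈ U := hU.conj_mem c.e_mem s
  have hbd : c.disp b = c.t * n := by
    obtain ⟨p, hp, hf⟩ : ∃ p ∈ P, s⁻¹ * c.e * s = c.e * p :=
      ⟨_, (hD.coset c.e_mem c.e_notMem hfU).resolve_left hfP, c.conj_e hD s⟩
    have hbinv : b⁻¹ = b := by rw [hb]; simp [mul_inv_rev, hD.inv_eq, mul_assoc]
    have h1 : b⁻¹ * (c.e * p) * b = c.e * p * (c.t * n) := by
      rw [← hf, hbinv, ← hst]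
      calc b * (s⁻¹ * c.e * s) * b = s⁻¹ * (a * c.e * a) * s := by rw [hb]; group
        _ = (s⁻¹ * c.e * s) * (s⁻¹ * c.t * s) := by rw [c.t_eq]; group
    have h2 : b⁻¹ * (c.e * p) * b = (b⁻¹ * c.e * b) * p := by
      calc b⁻¹ * (c.e * p) * b = (b⁻¹ * c.e * b) * (b⁻¹ * p * b) := by group
        _ = _ := by rw [conj_P hD hbL hp]
    have h3 : b⁻¹ * c.e * b = c.e * (c.t * n) := by
      refine mul_right_cancel (b := p) ?_
      rw [← h2, h1, mul_assoc c.e, mul_assoc c.e,
        hU.comm (hD.le hp) (hD.le (mul_mem c.t_mem hn))]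
    rw [disp, h3, ← mul_assoc, hU.sq _ c.e_mem, one_mul]
  have hbK : a * b ∈ K := by
    refine (hK.index b hbL).resolve_left fun hbK => ?_
    have hbb : b * b = 1 := by
      calc b * b = s⁻¹ * (a * a) * s := by rw [hb]; group
        _ = 1 := by rw [hD.inv]; group
    have hbC : b ∈ centralizer (U : Set G) := by
      rcases hK.unique b hbK (by rw [hbb]; exact one_mem _) with h | h
      · exact hU.le_cent h
      · have := mul_mem c.g_cent (hU.le_cent h)
        rwa [mul_inv_cancel_left] at this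
    rw [c.disp_of_mem_cent hD hbC] at hbd
    refine hnt ?_
    calc n = (c.t * c.t) * n := by rw [hU.sq _ (hD.le c.t_mem), one_mul]
      _ = c.t := by rw [mul_assoc, ← hbd, mul_one]
  have hm : c.disp (a * b) = n := by
    rw [c.disp_mul hD haL hbL, c.disp_a hD, hbd, ← mul_assoc, hU.sq _ (hD.le c.t_mem), one_mul]
  -- `C ≤ K`
  have hCK : centralizer (U : Set G) ≤ K := by
    intro x hx
    refine (hK.index x (hCL hx)).resolve_right fun hax => ?_
    have hdx : c.disp (a * x) = c.t := by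
      rw [c.disp_mul hD haL (hCL hx), c.disp_a hD, c.disp_of_mem_cent hD hx, mul_one]
    obtain ⟨x₀, hx₀, hgen⟩ := hK.gen
    have hpow : ∀ y ∈ K, ∃ j : ℤ, c.disp y = c.disp x₀ ^ j := by
      intro y hy
      obtain ⟨j, hj⟩ := hgen y hy
      refine ⟨j, ?_⟩
      have h1 : x₀ ^ j * ((x₀ ^ j)⁻¹ * y) = y := mul_inv_cancel_left _ _
      rw [← h1, c.disp_mul hD (zpow_mem (hK.le hx₀) j) (hCL (hU.le_cent hj)),
        c.disp_zpow hD (hK.le hx₀), c.disp_of_mem_cent hD (hU.le_cent hj), mul_one]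
    have hsq := hU.sq _ (hD.le (c.disp_mem hD (hK.le hx₀)))
    have hval : ∀ j : ℤ, c.disp x₀ ^ j = 1 ∨ c.disp x₀ ^ j = c.disp x₀ := by
      intro j
      rcases Int.even_or_odd j with ⟨i, rfl⟩ | ⟨i, rfl⟩
      · exact Or.inl (by rw [← two_mul, zpow_mul, zpow_two, hsq, one_zpow])
      · exact Or.inr (by rw [zpow_add_one, zpow_mul, zpow_two, hsq, one_zpow, one_mul])
    obtain ⟨i, hi⟩ := hpow _ hax
    obtain ⟨j, hj⟩ := hpow _ hbK
    rw [hdx] at hi
    rw [hm] at hj
    rcases hval i with h1 | h1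
    · exact c.t_ne (hi.trans h1)
    rcases hval j with h2 | h2
    · exact hn1 (hj.trans h2)
    exact hnt ((hj.trans h2).trans (hi.trans h1).symm)
  rcases hd with hd | hd
  · exact hCK (c.mem_cent_of_disp hD hl hd)
  · have hprod : c.disp (a * b * l) = 1 := by
      rw [c.disp_mul hD (hK.le hbK) hl, hm, hd, hU.sq _ (hD.le hn)]
    have h1 := hCK (c.mem_cent_of_disp hD (mul_mem (hK.le hbK) hl) hprod)
    have := mul_mem (inv_mem hbK) h1
    rwa [inv_mul_cancel_left] at this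

/-- The bound when the square of `g` is neither `1` nor `t`. -/
theorem bound_of_good (hw1 : c.g * c.g ≠ 1) (hwt : c.g * c.g ≠ c.t) {H N : Subgroup G}
    (h : IsElemSection 2 N H) : N.relIndex H ≤ 16 := by
  classical
  have hU := hD.eight
  haveI := hU.normal
  set w := c.g * c.g with hw
  have hwP : w ∈ P := c.sq_mem_P hD
  have hwc : ∀ s : G, s⁻¹ * w * s = w := c.sq_central hD
  haveI := c.P_normal hD hwP hw1 hwt hwc
  set L := centralizer (P : Set G) with hL
  haveI : L.Normal := normal_centralizer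
  obtain ⟨hLidx, -⟩ := c.L_index hD hwP hw1 hwt hwc
  obtain ⟨K, hK⟩ := c.exists_cyclicPart hD
  obtain ⟨k₁, hk₁, hk₁d, -⟩ :=
    section_split h L fun g _ x hx => (inferInstance : L.Normal).conj_mem x hx g
  have hk₁2 : k₁ ≤ 2 :=
    (Nat.le_of_dvd (Nat.pos_of_ne_zero index_ne_zero_of_finite) hk₁d).trans
      ((Nat.le_of_dvd (Nat.pos_of_ne_zero index_ne_zero_of_finite)
        (relIndex_dvd_index_of_normal _ _)).trans hLidx)
  set H₁ := L ⊓ H with hH₁
  have hs₁ := section_restrict h (show H₁ ≤ H from inf_le_right)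
  obtain ⟨k₂, hk₂, hk₂d, -⟩ :=
    section_split hs₁ K fun g hg x hx => CyclicPart.conj_mem c hK hg.1 hx
  have hk₂2 : k₂ ≤ 2 := by
    refine (Nat.le_of_dvd (Nat.pos_of_ne_zero index_ne_zero_of_finite) hk₂d).trans ?_
    show (K.subgroupOf H₁).index ≤ 2
    rw [index_eq_card]
    refine (Nat.card_le_card_of_injective
      (fun x : H₁ ⧸ K.subgroupOf H₁ => decide (((Quotient.out x : H₁) : G) ∈ K))
      fun x y hxy => ?_).trans (by simp)
    rw [← Quotient.out_eq x, ← Quotient.out_eq y]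
    refine QuotientGroup.eq.2 (mem_subgroupOf.2 ?_)
    simp only [decide_eq_decide] at hxy
    show ((Quotient.out x : H₁) : G)⁻¹ * ((Quotient.out y : H₁) : G) ∈ K
    by_cases hx : ((Quotient.out x : H₁) : G) ∈ K
    · exact mul_mem (inv_mem hx) (hxy.1 hx)
    · have h1 := (hK.index _ (Quotient.out x).2.1).resolve_left hx
      have h2 := (hK.index _ (Quotient.out y).2.1).resolve_left fun hy => hx (hxy.2 hy)
      have := mul_mem (inv_mem h1) h2
      rwa [mul_inv_rev, mul_assoc, inv_mul_cancel_left] at this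
  have hH₂ : K ⊓ H₁ = K ⊓ H := by
    rw [hH₁, ← inf_assoc, inf_eq_left.2 hK.le]
  rw [show (N ⊓ H₁).relIndex H₁ = N.relIndex H₁ from inf_relIndex_right N H₁, hH₂] at hk₂
  have hind : (N ⊓ H₁).relIndex (K ⊓ H) = N.relIndex (K ⊓ H) := by
    rw [← inf_relIndex_right (N ⊓ H₁), ← inf_relIndex_right N, inf_assoc,
      inf_eq_right.2 (show K ⊓ H ≤ H₁ from hH₂.symm.trans_le inf_le_right)]
  rw [hind] at hk₂
  have htot : N.relIndex H = k₁ * (k₂ * N.relIndex (K ⊓ H)) := by rw [hk₁, hk₂]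
  -- a generator of `(K ⊓ H)` modulo `U`
  have hs₂ := section_restrict h (show K ⊓ H ≤ H from inf_le_right)
  have hUH : U ⊓ (K ⊓ H) = U ⊓ H := by rw [← inf_assoc, inf_eq_left.2 hK.U_le]
  have hb8 : N.relIndex (U ⊓ H) ≤ 8 :=
    (relIndex_le_card _ _).trans ((card_le_of_le inf_le_left).trans hU.card.le)
  have hpart : N.relIndex (K ⊓ H) ≤ 8 ∧ (8 ≤ N.relIndex (K ⊓ H) →
      U ≤ H ∧ ∀ x ∈ U, x ∈ N → x = 1 ∨ x = w) := by
    by_cases hin : K ⊓ H ≤ U
    · have heq : K ⊓ H = U ⊓ H := by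
        rw [← hUH, inf_eq_right.2 hin]
      rw [heq]
      refine ⟨hb8, fun h8 => ?_⟩
      obtain ⟨h1, h2⟩ := of_card_le_relIndex (B := U) (hU.card.le.trans h8)
      exact ⟨h1, fun x hx hxN => Or.inl (h2 x hx hxN)⟩
    obtain ⟨x, hx, hxU⟩ := SetLike.not_le_iff_exists.1 hin
    -- a power in `g U`
    obtain ⟨y, hy, hyU⟩ : ∃ y ∈ K ⊓ H, c.g⁻¹ * y ∈ U := by
      obtain ⟨k, hk⟩ := IsPGroup.iff_orderOf.1 hU.pg x
      have hex : ∃ j, x ^ 2 ^ j ∈ U := ⟨k, by rw [← hk, pow_orderOf_eq_one]; exact one_mem _⟩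
      have hj : Nat.find hex ≠ 0 := fun h0 => hxU (by
        have := Nat.find_spec hex
        rwa [h0, pow_zero, pow_one] at this)
      obtain ⟨i, hi⟩ := Nat.exists_eq_succ_of_ne_zero hj
      have hnot : x ^ 2 ^ i ∉ U := Nat.find_min hex (by omega)
      refine ⟨x ^ 2 ^ i, pow_mem hx _, (hK.unique _ (pow_mem hx.1 _) ?_).resolve_left hnot⟩
      have := Nat.find_spec hex
      rwa [hi, Nat.succ_eq_add_one, pow_succ, pow_mul, pow_two] at this
    have hyy : y * y = w := by
      set v := c.g⁻¹ * y with hv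
      have hgv : v * c.g = c.g * v := mem_centralizer_iff.1 c.g_cent v hyU
      calc y * y = c.g * (v * c.g) * v := by rw [hv]; group
        _ = c.g * c.g * (v * v) := by rw [hgv]; group
        _ = w := by rw [hU.sq v hyU, mul_one]
    have hwN : w ∈ N := by
      have := h.pow y hy.2
      rwa [pow_two, hyy] at this
    have hwH : w ∈ H := hyy ▸ mul_mem hy.2 hy.2
    obtain ⟨hle, hge⟩ := of_mem_inf (hD.le hwP) hwH hwN hw1
    rw [hU.card] at hle hge
    -- the cyclic part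
    obtain ⟨x₀, hx₀, hgen⟩ := hK.gen
    let ψ : (K ⊓ H : Subgroup G) →* G ⧸ U :=
      (QuotientGroup.mk' U).comp (K ⊓ H).subtype
    have hψ : ψ.range ≤ zpowers ((x₀ : G) : G ⧸ U) := by
      rintro _ ⟨z, rfl⟩
      obtain ⟨j, hj⟩ := hgen z z.2.1
      refine ⟨j, ?_⟩
      show ((x₀ : G) : G ⧸ U) ^ j = ((z : G) : G ⧸ U)
      rw [← QuotientGroup.mk_zpow, QuotientGroup.eq]
      exact hj
    haveI : IsCyclic ψ.range :=
      isCyclic_of_injective _ (inclusion_injective hψ)
    obtain ⟨⟨_, z, rfl⟩, hz⟩ := IsCyclic.exists_generator (α := ψ.range)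
    have hcyc := section_cyclic hs₂ U (fun g _ u hu => hU.normal.conj_mem u hu g) (z : G) z.2
      fun v hv => by
        obtain ⟨j, hj⟩ := hz ⟨ψ ⟨v, hv⟩, ⟨v, hv⟩, rfl⟩
        refine ⟨j, QuotientGroup.eq.1 ?_⟩
        have := congrArg Subtype.val hj
        rw [QuotientGroup.mk_zpow]
        exact this
    rw [inf_relIndex_right N (K ⊓ H), hUH] at hcyc
    have hind2 : (N ⊓ (K ⊓ H)).relIndex (U ⊓ H) = N.relIndex (U ⊓ H) := by
      rw [← inf_relIndex_right (N ⊓ (K ⊓ H)), ← inf_relIndex_right N, inf_assoc,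
        inf_eq_right.2 (le_inf (inf_le_left.trans hK.U_le) inf_le_right)]
    rw [hind2] at hcyc
    exact ⟨hcyc.trans hle, fun h8 => hge (h8.trans hcyc)⟩
  obtain ⟨m, hm⟩ := relIndex_pow_two hU.pg N (K ⊓ H)
  rcases cases_three hm hpart.1 with h4 | h8
  · rw [htot]; exact (Nat.mul_le_mul hk₁2 (Nat.mul_le_mul hk₂2 h4)).trans (by norm_num)
  obtain ⟨hUle, hUN⟩ := hpart.2 h8.ge
  rw [htot, h8]
  by_contra hgt
  have hk₁e : k₁ = 2 := by
    rcases Nat.lt_or_ge k₁ 2 with h' | h'
    · exact absurd ((Nat.mul_le_mul (Nat.lt_succ_iff.1 h') (Nat.mul_le_mul_right 8 hk₂2)).trans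
        (by norm_num)) hgt
    · omega
  have hk₂e : k₂ = 2 := by
    rcases Nat.lt_or_ge k₂ 2 with h' | h'
    · exact absurd ((Nat.mul_le_mul hk₁2 (Nat.mul_le_mul_right 8 (Nat.lt_succ_iff.1 h'))).trans
        (by norm_num)) hgt
    · omega
  obtain ⟨s, hsH, hsL⟩ : ∃ s ∈ H, s ∉ L := by
    by_contra hc
    push Not at hc
    rw [relIndex_eq_one.2 hc, Nat.dvd_one] at hk₁d
    omega
  obtain ⟨l, hl, hlK⟩ : ∃ l ∈ H₁, l ∉ K := by
    by_contra hc
    push Not at hc
    rw [relIndex_eq_one.2 hc, Nat.dvd_one] at hk₂d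
    omega
  have hdU : c.disp l ∈ U := hD.le (c.disp_mem hD hl.1)
  have hdN : c.disp l ∈ N := mul_conj_mem h (hUle c.e_mem) hl.2 (hU.sq _ c.e_mem)
  exact hlK (c.mem_K_of_disp hD hwP hw1 hwt hwc hK hsL hl.1 (hUN _ hdU hdN))

end Core

end Cfsg.Agent.Lib.HaradaEight
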