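import Mathlib
import Cfsg.Agent.Lib.HaradaEight.Good

/-!
The case in which `C_G(U) = U ∪ g U` is abelian of order sixteen.
-/

set_option autoImplicit false

namespace Cfsg.Agent.Lib.HaradaEight

open Subgroup
open Cfsg.Agent.Lib.SectRank

universe u

variable {G : Type u} [Group G] [Finite G] {U P : Subgroup G} {a : G}

/-- The index of the centraliser of `U` is at most eight. -/
theorem NormalEight.index_cent_le (hU : NormalEight U) :
    (centralizer (U : Set G)).index ≤ 8 := by
  classical
  obtain ⟨f⟩ := hU.exists_flag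
  rw [index_eq_card]
  refine (Nat.card_le_card_of_injective
    (fun x : G ⧸ centralizer (U : Set G) =>
      (⟨f.key (Quotient.out x)⁻¹, f.key_mem hU _⟩ :
        (({1, f.z} : Set G) ×ˢ ((f.P : Subgroup G) : Set G) : Set (G × G)))) fun x y hxy => ?_).trans
    ?_
  · have h := f.key_eq hU (congrArg Subtype.val hxy)
    rw [inv_inv] at h
    rw [← Quotient.out_eq x, ← Quotient.out_eq y]
    exact QuotientGroup.eq.2 h
  · rw [Nat.card_coe_set_eq, Set.ncard_prod]
    have h1 : ({1, f.z} : Set G).ncard ≤ 2 := (Set.ncard_insert_le _ _).trans (by simp)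
    have h2 : ((f.P : Subgroup G) : Set G).ncard = 4 := by
      rw [← Nat.card_coe_set_eq]; exact f.P_card
    rw [h2]
    omega

theorem normal_of_index_le_two {M : Subgroup G} (h : M.index ≤ 2) : M.Normal := by
  rcases Nat.lt_or_ge M.index 2 with h1 | h1
  · have h0 : M.index ≠ 0 := index_ne_zero_of_finite
    rw [index_eq_one.1 (show M.index = 1 by omega)]
    infer_instance
  · exact normal_of_index_eq_two (by omega)

/-- Two elements of `U` which determine the action realise every pattern of moves by `n`. -/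
theorem exists_pattern (hU : NormalEight U) {H : Subgroup G} {x y n : G} (hx : x ∈ U)
    (hy : y ∈ U)
    (hval : ∀ h ∈ H, ∀ z ∈ U, z * (h⁻¹ * z * h) = 1 ∨ z * (h⁻¹ * z * h) = n)
    (hfix : ∀ h ∈ H, h⁻¹ * x * h = x → h⁻¹ * y * h = y → h ∈ centralizer (U : Set G))
    (h4 : 4 ≤ (centralizer (U : Set G)).relIndex H) (i j : Bool) :
    ∃ h ∈ H, x * (h⁻¹ * x * h) = (if i then n else 1) ∧
      y * (h⁻¹ * y * h) = (if j then n else 1) := by
  classical
  set C := centralizer (U : Set G) with hC
  let key : G → G × G := fun h => (x * (h⁻¹ * x * h), y * (h⁻¹ * y * h))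
  have hsub : key '' (H : Set G) ⊆ ({1, n} : Set G) ×ˢ ({1, n} : Set G) := by
    rintro _ ⟨h, hh, rfl⟩
    exact ⟨hval h hh x hx, hval h hh y hy⟩
  have heq : ∀ {g h : G}, g ∈ H → h ∈ H → key g = key h → g * h⁻¹ ∈ C := by
    intro g h hg hh hk
    simp only [key, Prod.mk.injEq, mul_right_inj] at hk
    refine hfix _ (mul_mem hg (inv_mem hh)) ?_ ?_
    · calc (g * h⁻¹)⁻¹ * x * (g * h⁻¹) = h * (g⁻¹ * x * g) * h⁻¹ := by group
        _ = x := by rw [hk.1]; group
    · calc (g * h⁻¹)⁻¹ * y * (g * h⁻¹) = h * (g⁻¹ * y * g) * h⁻¹ := by group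
        _ = y := by rw [hk.2]; group
  have hge : 4 ≤ (key '' (H : Set G)).ncard := by
    calc 4 ≤ C.relIndex H := h4
      _ = Nat.card (H ⧸ C.subgroupOf H) := index_eq_card _
      _ ≤ Nat.card (key '' (H : Set G)) := Nat.card_le_card_of_injective
          (fun x => ⟨key (((Quotient.out x : H) : G))⁻¹,
            Set.mem_image_of_mem _ (inv_mem (Quotient.out x).2)⟩) (fun x y hxy => by
            have := heq (inv_mem (Quotient.out x).2) (inv_mem (Quotient.out y).2)
              (congrArg Subtype.val hxy)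
            rw [inv_inv] at this
            rw [← Quotient.out_eq x, ← Quotient.out_eq y]
            exact QuotientGroup.eq.2 (mem_subgroupOf.2 this))
      _ = _ := Nat.card_coe_set_eq _
  have heq2 := Set.eq_of_subset_of_ncard_le hsub (by
    refine le_trans ?_ hge
    rw [Set.ncard_prod]
    have h1 : ({1, n} : Set G).ncard ≤ 2 := (Set.ncard_insert_le _ _).trans (by simp)
    exact Nat.mul_le_mul h1 h1) (Set.toFinite _)
  have hmem : ((if i then n else 1, if j then n else 1) : G × G) ∈ key '' (H : Set G) := by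
    rw [heq2]
    cases i <;> cases j <;> simp
  obtain ⟨h, hh, hk⟩ := hmem
  exact ⟨h, hh, congrArg Prod.fst hk, congrArg Prod.snd hk⟩

theorem fixed_of_mul_eq_one {z h : G} (hz : z * z = 1) (h1 : z * (h⁻¹ * z * h) = 1) :
    h⁻¹ * z * h = z :=
  (eq_inv_of_mul_eq_one_right h1).trans (inv_eq_of_mul_eq_one_left hz)

namespace Core

variable (hD : Data U P a) (c : Core U P a)
include hD

/-- The bound when `C = U ∪ g U`. -/
theorem bound_of_small (hsmall : ∀ x ∈ centralizer (U : Set G), x ∈ U ∨ c.g⁻¹ * x ∈ U)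
    {H N : Subgroup G} (h : IsElemSection 2 N H) : N.relIndex H ≤ 16 := by
  classical
  have hU := hD.eight
  haveI := hU.normal
  haveI := hU.cent_normal
  set C := centralizer (U : Set G) with hC
  -- `C` is abelian of order at most sixteen
  have hCg : ∀ x ∈ C, x * c.g = c.g * x := by
    intro x hx
    rcases hsmall x hx with h' | h'
    · exact mem_centralizer_iff.1 c.g_cent x h'
    · calc x * c.g = c.g * ((c.g⁻¹ * x) * c.g) := by group
        _ = c.g * (c.g * (c.g⁻¹ * x)) := by rw [mem_centralizer_iff.1 c.g_cent _ h']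
        _ = c.g * x := by group
  have hCcomm : ∀ x ∈ C, ∀ y ∈ C, x * y = y * x := by
    intro x hx y hy
    rcases hsmall y hy with h' | h'
    · exact (mem_centralizer_iff.1 hx y h').symm
    · calc x * y = (x * c.g) * (c.g⁻¹ * y) := by group
        _ = c.g * (x * (c.g⁻¹ * y)) := by rw [hCg x hx, mul_assoc]
        _ = c.g * ((c.g⁻¹ * y) * x) := by rw [mem_centralizer_iff.1 hx _ h']
        _ = y * x := by group
  have hCcard : Nat.card C ≤ 16 := by
    have hsub : (C : Set G) ⊆ (U : Set G) ∪ (fun u => c.g * u) '' (U : Set G) := by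
      intro x hx
      rcases hsmall x hx with h' | h'
      · exact Or.inl h'
      · exact Or.inr ⟨_, h', mul_inv_cancel_left _ _⟩
    rw [← SetLike.coe_sort_coe, Nat.card_coe_set_eq]
    refine (Set.ncard_le_ncard hsub (Set.toFinite _)).trans ((Set.ncard_union_le _ _).trans ?_)
    have h1 : (U : Set G).ncard = 8 := by rw [← Nat.card_coe_set_eq]; exact hU.card
    have h2 := Set.ncard_image_le (f := fun u => c.g * u) (Set.toFinite (U : Set G))
    omega
  obtain ⟨k, hk4, (hk : N.relIndex H = k * N.relIndex (C ⊓ H)), (hkd : k ∣ C.relIndex H), -⟩ :=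
    hU.top_bound h
  set b := N.relIndex (C ⊓ H) with hb
  have hb16 : b ≤ 16 := (relIndex_le_card _ _).trans ((card_le_of_le inf_le_left).trans hCcard)
  obtain ⟨mb, hmb⟩ := relIndex_pow_two hU.pg N (C ⊓ H)
  -- when `H` centralises `U`
  have hHC : H ≤ C → N.relIndex H ≤ 16 := fun hle =>
    (relIndex_le_card _ _).trans ((card_le_of_le hle).trans hCcard)
  by_cases hsm : k * b ≤ 16
  · rw [hk]; exact hsm
  by_cases hb8 : 8 < b
  · have h16 : 2 ^ 4 ≤ b := pow_two_dvd_le (b := 3) hmb hb8
    obtain ⟨hCH, hCN⟩ := of_card_le_relIndex (B := C) (hCcard.trans (by simpa using h16))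
    refine hHC fun x hx => mem_centralizer_iff.2 fun u hu => ?_
    have h1 := mul_conj_mem h (hCH (hU.le_cent hu)) hx (hU.sq u hu)
    have h2 := hCN _ (hU.le_cent (mul_mem hu (hU.conj_mem hu x))) h1
    calc u * x = x * (x⁻¹ * u * x) := by group
      _ = x * u := by rw [fixed_of_mul_eq_one (hU.sq u hu) h2]
  have hkb : k = 4 ∧ b = 8 := by
    have hb5 : 4 < b := by
      by_contra hc
      exact hsm ((Nat.mul_le_mul hk4 (not_lt.1 hc)).trans (by norm_num))
    have h8 := pow_two_dvd_le (b := 2) hmb hb5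
    have hb : b = 8 := by omega
    refine ⟨?_, hb⟩
    by_contra hc
    obtain ⟨m, hm⟩ := relIndex_pow_two hU.pg C H
    have hk2 : k ≤ 2 := by
      by_contra hc2
      have := pow_two_dvd_le (b := 1) (hkd.trans hm) (by omega)
      omega
    exact hsm ((Nat.mul_le_mul hk2 hb.le).trans (by norm_num))
  obtain ⟨hk4', hb8'⟩ := hkb
  have hrel : 4 ≤ C.relIndex H := by
    have hpos : 0 < C.relIndex H := Nat.pos_of_ne_zero index_ne_zero_of_finite
    have := Nat.le_of_dvd hpos hkd
    omega
  have hnle : ¬ H ≤ C := fun hle => by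
    rw [relIndex_eq_one.2 hle] at hrel
    omega
  have hidx : C.index ≤ 8 := hU.index_cent_le
  exfalso
  by_cases hCH : C ≤ H
  · -- `H` is normal and `N ∩ C` is generated by a central element of `P`
    haveI : H.Normal := normal_of_index_le_two (by
      have h1 := relIndex_mul_index hCH
      have h2 : 4 * H.index ≤ C.index := h1 ▸ Nat.mul_le_mul_right _ hrel
      omega)
    obtain ⟨u, hu, x, hx, hne⟩ : ∃ u ∈ U, ∃ x ∈ H, u * (x⁻¹ * u * x) ≠ 1 := by
      by_contra hc
      push Not at hc
      refine hnle fun x hx => mem_centralizer_iff.2 fun u hu => ?_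
      calc u * x = x * (x⁻¹ * u * x) := by group
        _ = x * u := by rw [fixed_of_mul_eq_one (hU.sq u hu) (hc u hu x hx)]
    set n := u * (x⁻¹ * u * x) with hn
    have hUH : U ≤ H := hU.le_cent.trans hCH
    have hnU : n ∈ U := mul_mem hu (hU.conj_mem hu x)
    have hnN : n ∈ N := mul_conj_mem h (hUH hu) hx (hU.sq u hu)
    obtain ⟨-, honly'⟩ := of_mem_inf (hU.le_cent hnU) (hUH hnU) hnN hne
    have honly := (honly' (by rw [← hb, hb8']; omega)).2
    have hval : ∀ y ∈ H, ∀ z ∈ U, z * (y⁻¹ * z * y) = 1 ∨ z * (y⁻¹ * z * y) = n :=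
      fun y hy z hz => honly _ (hU.le_cent (mul_mem hz (hU.conj_mem hz y)))
        (mul_conj_mem h (hUH hz) hy (hU.sq z hz))
    have hnc : ∀ s : G, s⁻¹ * n * s = n := by
      intro s
      have hx' : s⁻¹ * x * s ∈ H := by
        have := (inferInstance : H.Normal).conj_mem x hx s⁻¹
        rwa [inv_inv] at this
      have h1 : s⁻¹ * n * s =
          (s⁻¹ * u * s) * ((s⁻¹ * x * s)⁻¹ * (s⁻¹ * u * s) * (s⁻¹ * x * s)) := by
        rw [hn]; group
      rcases hval _ hx' _ (hU.conj_mem hu s) with h' | h'
      · refine absurd ?_ hne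
        calc n = s * (s⁻¹ * n * s) * s⁻¹ := by group
          _ = 1 := by rw [h1, h']; group
      · exact h1.trans h'
    have hnP : n ∈ P := hD.mem_P_of_cent (hU.le_cent hnU) (by
      calc n * a = a * (a⁻¹ * n * a) := by group
        _ = a * n := by rw [hnc])
    have hfixP : ∀ q ∈ P, (∀ p ∈ P, p = 1 ∨ p = n ∨ p = q ∨ p = n * q) →
        ∀ y ∈ H, y⁻¹ * q * y = q → y⁻¹ * c.e * y = c.e → y ∈ C := by
      intro q hq hcases y _ hyq hye
      have hyL : y ∈ centralizer (P : Set G) := mem_centralizer_iff.2 fun p hp => by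
        have hp' : y⁻¹ * p * y = p := by
          rcases hcases p hp with rfl | rfl | rfl | rfl
          · group
          · exact hnc y
          · exact hyq
          · calc y⁻¹ * (n * q) * y = (y⁻¹ * n * y) * (y⁻¹ * q * y) := by group
              _ = n * q := by rw [hnc, hyq]
        calc p * y = y * (y⁻¹ * p * y) := by group
          _ = y * p := by rw [hp']
      refine c.mem_cent_of_disp hD hyL ?_
      rw [disp, hye, hU.sq _ c.e_mem]
    by_cases hnt : n = c.t
    · have htc : ∀ s : G, s⁻¹ * c.t * s = c.t := hnt ▸ hnc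
      obtain ⟨y, hy, hy1, hy2⟩ := exists_pattern hU (hD.le c.u₀_mem) c.e_mem hval
        (hfixP c.u₀ c.u₀_mem (fun p hp => by rw [hnt]; exact c.P_cases hD hp)) hrel false true
      simp only [Bool.false_eq_true, if_false, if_true] at hy1 hy2
      have hyu := fixed_of_mul_eq_one (hU.sq _ (hD.le c.u₀_mem)) hy1
      have hyL : y ∈ centralizer (P : Set G) := mem_centralizer_iff.2 fun p hp => by
        have hp' : y⁻¹ * p * y = p := by
          rcases c.P_cases hD hp with rfl | rfl | rfl | rfl
          · group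
          · exact htc y
          · exact hyu
          · calc y⁻¹ * (c.t * c.u₀) * y = (y⁻¹ * c.t * y) * (y⁻¹ * c.u₀ * y) := by group
              _ = c.t * c.u₀ := by rw [htc y, hyu]
        calc p * y = y * (y⁻¹ * p * y) := by group
          _ = y * p := by rw [hp']
      have hd : c.disp y = c.t := hy2.trans hnt
      have hya : y * a ∈ C := c.mem_cent_of_disp hD (mul_mem hyL (a_mem_L hD)) (by
        rw [c.disp_mul hD hyL (a_mem_L hD), hd, c.disp_a hD, hU.sq _ (hD.le c.t_mem)])
      have hyg : y⁻¹ * c.g * y = c.g * c.u₀ := by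
        calc y⁻¹ * c.g * y = a * ((y * a)⁻¹ * (c.g * (y * a))) * a⁻¹ := by group
          _ = a * ((y * a)⁻¹ * ((y * a) * c.g)) * a⁻¹ := by rw [hCg _ hya]
          _ = a * c.g * a := by rw [inv_mul_cancel_left, hD.inv_eq]
          _ = c.g * c.u₀ := c.g_move
      have hu₀N : c.u₀ ∈ N := by
        have h1 := h.comm c.g⁻¹ (inv_mem (hCH c.g_cent)) y⁻¹ (inv_mem hy)
        rwa [inv_inv, inv_inv, show c.g⁻¹ * y⁻¹ * c.g * y = c.g⁻¹ * (y⁻¹ * c.g * y) by group, hyg,
          inv_mul_cancel_left] at h1
      rcases honly _ (hU.le_cent (hD.le c.u₀_mem)) hu₀N with h' | h'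
      · exact c.u₀_ne.1 h'
      · exact c.u₀_ne.2 (h'.trans hnt)
    · haveI := c.P_normal hD hnP hne hnt hnc
      have hcases : ∀ p ∈ P, p = 1 ∨ p = n ∨ p = c.t ∨ p = n * c.t := by
        intro p hp
        rcases c.P_cases' hD hnP hne hnt hp with h' | h' | h' | h'
        exacts [Or.inl h', Or.inr (Or.inr (Or.inl h')), Or.inr (Or.inl h'),
          Or.inr (Or.inr (Or.inr (h'.trans (hU.comm (hD.le c.t_mem) hnU))))]
      have hfix := hfixP c.t c.t_mem hcases
      obtain ⟨s, hs, hs1, -⟩ := exists_pattern hU (hD.le c.t_mem) c.e_mem hval hfix hrel true false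
      obtain ⟨r, hr, hr1, hr2⟩ :=
        exists_pattern hU (hD.le c.t_mem) c.e_mem hval hfix hrel false true
      simp only [Bool.false_eq_true, if_false, if_true] at hs1 hr1 hr2
      have hsL : s ∉ centralizer (P : Set G) := fun hs' => hne (by
        rw [← hs1, conj_P hD hs' c.t_mem, hU.sq _ (hD.le c.t_mem)])
      have hrt := fixed_of_mul_eq_one (hU.sq _ (hD.le c.t_mem)) hr1
      have hrL : r ∈ centralizer (P : Set G) := mem_centralizer_iff.2 fun p hp => by
        have hp' : r⁻¹ * p * r = p := by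
          rcases hcases p hp with rfl | rfl | rfl | rfl
          · group
          · exact hnc r
          · exact hrt
          · calc r⁻¹ * (n * c.t) * r = (r⁻¹ * n * r) * (r⁻¹ * c.t * r) := by group
              _ = n * c.t := by rw [hnc, hrt]
        calc p * r = r * (r⁻¹ * p * r) := by group
          _ = r * p := by rw [hp']
      have hrd : c.disp r = n := hr2
      obtain ⟨K, hK⟩ := c.exists_cyclicPart hD
      have hrK := c.mem_K_of_disp hD hnP hne hnt hnc hK hsL hrL (Or.inr hrd)
      have hrrC : r * r ∈ C := c.mem_cent_of_disp hD (mul_mem hrL hrL) (by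
        rw [c.disp_mul hD hrL hrL, hrd, hU.sq _ hnU])
      have hrrU : r * r ∈ U := by
        have hN : r * r ∈ N := by simpa [pow_two] using h.pow r hr
        rcases honly _ hrrC hN with h' | h' <;> rw [h']
        exacts [one_mem _, hnU]
      have hrC : r ∈ C := by
        rcases hK.unique r hrK hrrU with h' | h'
        · exact hU.le_cent h'
        · have := mul_mem c.g_cent (hU.le_cent h')
          rwa [mul_inv_cancel_left] at this
      exact hne (hrd.symm.trans (c.disp_of_mem_cent hD hrC))
  · -- `C ∩ H` has order eight and is centralised by `H`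
    set D := C ⊓ H with hDdef
    have hDle : D ≤ C := inf_le_left
    have hDlt : Nat.card D < Nat.card C := by
      refine lt_of_le_of_ne (card_le_of_le hDle) fun he => hCH ?_
      exact (eq_of_le_of_card_ge hDle he.ge).symm.trans_le inf_le_right
    have hproper : ∀ M : Subgroup G, M ≤ C → Nat.card M < Nat.card C → Nat.card M ≤ 8 := by
      intro M hM hlt
      obtain ⟨q, hq⟩ := card_dvd_of_le hM
      have hq2 : 2 ≤ q := by
        by_contra hc
        interval_cases q <;> omega
      have := Nat.mul_le_mul_left (Nat.card M) hq2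
      omega
    have hD8 : Nat.card D = 8 :=
      le_antisymm (hproper D hDle hDlt) (hb8'.symm.le.trans (relIndex_le_card _ _))
    have hDH : D ≤ H := inf_le_right
    obtain ⟨-, hDN⟩ := of_card_le_relIndex (N := N) (H := H) (B := D) (by
      rw [inf_eq_left.2 hDH, ← hb, hD8, hb8'])
    have hcen : ∀ x ∈ D, ∀ y ∈ H, x * y = y * x := by
      intro x hx y hy
      have h1 := h.comm x hx.2 y hy
      have h2 : x * y * x⁻¹ * y⁻¹ ∈ C := by
        have : x * y * x⁻¹ * y⁻¹ = x * (y * x⁻¹ * y⁻¹) := by group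
        rw [this]; exact mul_mem hx.1 (hU.cent_normal.conj_mem _ (inv_mem hx.1) y)
      have h0 := hDN _ ⟨h2, h.le h1⟩ h1
      calc x * y = (x * y * x⁻¹ * y⁻¹) * (y * x) := by group
        _ = y * x := by rw [h0, one_mul]
    haveI : (H ⊔ C).Normal := normal_of_index_le_two (by
      have h1 := relIndex_mul_index (le_sup_right : C ≤ H ⊔ C)
      rw [relIndex_sup_right] at h1
      have h2 : 4 * (H ⊔ C).index ≤ C.index := h1 ▸ Nat.mul_le_mul_right _ hrel
      omega)
    set F := C ⊓ centralizer ((H ⊔ C : Subgroup G) : Set G) with hF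
    haveI : (centralizer ((H ⊔ C : Subgroup G) : Set G)).Normal := normal_centralizer
    haveI : F.Normal := normal_inf_normal _ _
    have hDF : D ≤ F := le_inf hDle (le_centralizer_iff.1 (sup_le
      (fun y hy => mem_centralizer_iff.2 fun x hx => hcen x hx y hy)
      (fun y hy => mem_centralizer_iff.2 fun x hx => hCcomm x hx.1 y hy)))
    have hFeq : F = D := by
      refine (eq_of_le_of_card_ge hDF (hD8.symm ▸ hproper F inf_le_left ?_)).symm
      refine lt_of_le_of_ne (card_le_of_le inf_le_left) fun he => hnle fun y hy => ?_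
      have hFC : F = C := eq_of_le_of_card_ge inf_le_left he.ge
      refine mem_centralizer_iff.2 fun u hu => ?_
      have huF : u ∈ F := hFC.symm ▸ hU.le_cent hu
      exact (mem_centralizer_iff.1 huF.2 y (mem_sup_left hy)).symm
    haveI hDn : D.Normal := hFeq ▸ (inferInstance : F.Normal)
    have hUD : ¬ U ≤ D := fun hle => hnle fun y hy =>
      mem_centralizer_iff.2 fun u hu => hcen u (hle hu) y hy
    obtain ⟨d, hd, hdU⟩ : ∃ d ∈ D, d ∉ U := by
      by_contra hc
      push Not at hc
      exact hUD (eq_of_le_of_card_ge hc (by rw [hD8, hU.card])).ge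
    obtain ⟨u, huU, hde⟩ : ∃ u ∈ U, d = c.g * u :=
      ⟨c.g⁻¹ * d, (hsmall d hd.1).resolve_left hdU, (mul_inv_cancel_left _ _).symm⟩
    obtain ⟨v, hv, hv1, hvt, hda⟩ : ∃ v ∈ P, v ≠ 1 ∧ v ≠ c.t ∧ a * d * a = d * v := by
      have hexp : a * d * a = c.g * (c.u₀ * (a * u * a)) := by
        calc a * d * a = (a * c.g * a⁻¹) * (a * u * a) := by rw [hde]; group
          _ = _ := by rw [hD.inv_eq, c.g_move, mul_assoc]
      rcases c.U_move hD huU with h' | h'
      · refine ⟨c.u₀, c.u₀_mem, c.u₀_ne.1, c.u₀_ne.2, ?_⟩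
        rw [hexp, h', hde, mul_assoc, hU.comm (hD.le c.u₀_mem) huU]
      · refine ⟨c.t * c.u₀, mul_mem c.t_mem c.u₀_mem, fun h1 => c.u₀_ne.2 ?_,
          fun h1 => c.u₀_ne.1 (mul_eq_left.1 h1), ?_⟩
        · rw [mul_eq_one_iff_eq_inv,
            inv_eq_of_mul_eq_one_left (hU.sq _ (hD.le c.u₀_mem))] at h1
          exact h1.symm
        · rw [hexp, h', hde, mul_assoc, hU.comm (hD.le c.u₀_mem)
            (mul_mem huU (hD.le c.t_mem)), mul_assoc u]
    have hvD : v ∈ D := by
      have h1 := mul_mem (inv_mem hd) (hDn.conj_mem d hd a)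
      rwa [hD.inv_eq, hda, inv_mul_cancel_left] at h1
    have hQ4 : 4 ≤ Nat.card (U ⊓ D : Subgroup G) := by
      have h1 := relIndex_mul_card U D
      rw [hD8] at h1
      have h2 : U.relIndex D ≤ 2 := by
        have h3 := relIndex_mul_card U (U ⊔ D)
        rw [inf_eq_left.2 (le_sup_left : U ≤ U ⊔ D), hU.card] at h3
        have h4 : Nat.card (U ⊔ D : Subgroup G) ≤ 16 :=
          (card_le_of_le (sup_le hU.le_cent hDle)).trans hCcard
        rw [sup_comm] at h4
        rw [sup_comm, relIndex_sup_right] at h3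
        omega
      by_contra hlt
      have := Nat.mul_le_mul (Nat.le_of_lt_succ (not_le.1 hlt)) h2
      omega
    have hPD : P ≤ D := by
      by_cases htD : c.t ∈ D
      · intro p hp
        rcases c.P_cases' hD hv hv1 hvt hp with rfl | rfl | rfl | rfl
        exacts [one_mem _, htD, hvD, mul_mem htD hvD]
      · have hQP : U ⊓ D ≤ P := by
          intro y hy
          refine hD.mem_P_of_cent (hU.le_cent hy.1) ?_
          have hyfix : a * y * a = y := by
            refine (c.U_move hD hy.1).resolve_right fun h' => htD ?_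
            have h1 := D.mul_mem (D.inv_mem hy.2) (hDn.conj_mem y hy.2 a)
            rwa [hD.inv_eq, h', inv_mul_cancel_left] at h1
          calc y * a = (a * y * a) * a := by rw [hyfix]
            _ = a * y := by rw [mul_assoc _ a a, hD.inv, mul_one]
        exact (eq_of_le_of_card_ge hQP (hD.card.le.trans hQ4)).ge.trans inf_le_right
    have hHL : H ≤ centralizer (P : Set G) := fun y hy =>
      mem_centralizer_iff.2 fun p hp => hcen p (hPD hp) y hy
    let φ : H ⧸ C.subgroupOf H → P := fun q =>
      ⟨c.disp ((Quotient.out q : H) : G), c.disp_mem hD (hHL (Quotient.out q).2)⟩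
    have hinj : Function.Injective φ := by
      intro x y hxy
      have hxy' := congrArg Subtype.val hxy
      rw [← Quotient.out_eq x, ← Quotient.out_eq y]
      refine QuotientGroup.eq.2 (mem_subgroupOf.2 ?_)
      have hx := hHL (Quotient.out x).2
      refine c.mem_cent_of_disp hD (mul_mem (inv_mem hx) (hHL (Quotient.out y).2)) ?_
      show c.disp (((Quotient.out x : H) : G)⁻¹ * ((Quotient.out y : H) : G)) = 1
      rw [c.disp_mul hD (inv_mem hx) (hHL (Quotient.out y).2), ← zpow_neg_one,
        c.disp_zpow hD hx, zpow_neg_one]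
      exact inv_mul_eq_one.2 hxy'
    obtain ⟨q, hq⟩ := (hinj.bijective_of_nat_card_le (by
      rw [hD.card, ← index_eq_card]; exact hrel)).2 ⟨c.t, c.t_mem⟩
    set y : G := ((Quotient.out q : H) : G) with hy
    have hyH : y ∈ H := (Quotient.out q).2
    have hyt : c.disp y = c.t := congrArg Subtype.val hq
    have hya : y * a ∈ C := c.mem_cent_of_disp hD (mul_mem (hHL hyH) (a_mem_L hD)) (by
      rw [c.disp_mul hD (hHL hyH) (a_mem_L hD), hyt, c.disp_a hD, hU.sq _ (hD.le c.t_mem)])
    refine hv1 (mul_eq_left.1 (hda.symm.trans ?_))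
    have h1 : Commute d y := hcen d hd y hyH
    have h2 : Commute d (y * a) := hCcomm d hd.1 _ hya
    have h3 : Commute d a := by simpa using h1.inv_right.mul_right h2
    rw [← h3.eq, mul_assoc, hD.inv, mul_one]

include c in
/-- The bound for a core. -/
theorem bound {H N : Subgroup G} (h : IsElemSection 2 N H) : N.relIndex H ≤ 16 := by
  rcases c.small_or_good hD with hs | ⟨h1, h2⟩
  · exact c.bound_of_small hD hs h
  · exact c.bound_of_good hD h1 h2 h

end Core

end Cfsg.Agent.Lib.HaradaEight
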