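import Mathlib
import Cfsg.Agent.Lib.HaradaEight.Small
import Cfsg.Agent.Lib.FourGenerator.Main

/-!
A `2`-group with a self-centralising elementary abelian subgroup of order eight has sectional rank
at most four.
-/

set_option autoImplicit false

namespace Cfsg.Agent.Lib.HaradaEight

open Subgroup

universe u

variable {G : Type u} [Group G] [Finite G]

/-- A normal elementary abelian subgroup of order at least eight contains one of order eight. -/
theorem exists_normalEight (hG : IsPGroup 2 G) {E : Subgroup G} (hEn : E.Normal)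
    (hE2 : ∀ x ∈ E, x ^ 2 = 1) (h4 : 4 < Nat.card E) : ∃ U : Subgroup G, NormalEight U := by
  haveI : Fact (Nat.Prime 2) := ⟨Nat.prime_two⟩
  haveI := hEn
  have hstep : ∀ M : Subgroup G, M.Normal → M ≤ E → Nat.card M < Nat.card E →
      ∃ K : Subgroup G, K.Normal ∧ K ≤ E ∧ Nat.card K = 2 * Nat.card M := by
    intro M hM hME hlt
    haveI := hM
    have hlt' : M < E := lt_of_le_of_ne hME fun h => hlt.ne (by rw [h])
    obtain ⟨K, hKn, -, hKE, hKc, -⟩ := PLemmas.exists_normal_step hG hlt'
    exact ⟨K, hKn, hKE, hKc⟩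
  have h1 : Nat.card (⊥ : Subgroup G) = 1 := card_bot
  obtain ⟨K₁, hn₁, hle₁, hc₁⟩ := hstep ⊥ inferInstance bot_le (by omega)
  obtain ⟨K₂, hn₂, hle₂, hc₂⟩ := hstep K₁ hn₁ hle₁ (by omega)
  obtain ⟨U, hn, hle, hc⟩ := hstep K₂ hn₂ hle₂ (by omega)
  exact ⟨U, hG, hn, fun u hu => by rw [← pow_two]; exact hE2 u (hle hu), by omega⟩

/-- **Harada's theorem**: a self-centralising elementary abelian subgroup of order eight bounds the
sectional rank by four. -/
theorem sectionalRank_le_four (hG : IsPGroup 2 G) {A : Subgroup G} (hA8 : Nat.card A = 8)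
    (hAsq : ∀ x ∈ A, x * x = 1) (hA : centralizer (A : Set G) = A) :
    Cfsg.SectionalPRankLE 2 4 G := by
  by_cases hno : ∀ E : Subgroup G, E.Normal → IsMulCommutative E → (∀ x ∈ E, x ^ 2 = 1) →
      Nat.card E ≤ 4
  · exact FourGenerator.sectionalRank_le_four hG hno
  push Not at hno
  obtain ⟨E, hEn, -, hE2, hE4⟩ := hno
  obtain ⟨U, hU⟩ := exists_normalEight hG hEn hE2 hE4
  refine Cfsg.Agent.Lib.SectRank.sectionalPRankLE_of_forall fun N H h => ?_
  rw [show (2 : ℕ) ^ 4 = 16 by rfl]
  by_cases hCU : centralizer (U : Set G) = U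
  · exact hU.bound_of_cent_eq hCU h
  obtain ⟨P, a, hD⟩ := (exists_data hU hA8 hAsq hA).resolve_left hCU
  obtain ⟨c⟩ := exists_core hD hCU
  exact c.bound hD h

end Cfsg.Agent.Lib.HaradaEight
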