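import Mathlib
import Cfsg.Agent.Lib.HaradaEight.Main

/-!
A `2`-group `S` with a self-centralising `D₈ * D₈` has a self-centralising elementary abelian
subgroup of order eight.
-/

set_option autoImplicit false

namespace Cfsg.Agent.Lib.HaradaEight

open Subgroup

universe u

variable {S : Type u} [Group S]

/-- Five generators of `D₈ * D₈`: `⟨a, b'⟩` and `⟨c, b⟩` are dihedral. -/
structure DualPairs (Q : Subgroup S) (z a c b b' : S) : Prop where
  z_ne : z ≠ 1
  sq : z * z = 1 ∧ a * a = 1 ∧ c * c = 1 ∧ b * b = 1 ∧ b' * b' = 1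
  mem : z ∈ Q ∧ a ∈ Q ∧ c ∈ Q ∧ b ∈ Q ∧ b' ∈ Q
  gen : Q ≤ closure {z, a, c, b, b'}
  z_comm : Commute z a ∧ Commute z c ∧ Commute z b ∧ Commute z b'
  ac : Commute a c
  bb : Commute b b'
  ab : Commute a b
  ab' : a * b' = b' * a * z
  cb : c * b = b * c * z
  cb' : Commute c b'

namespace DualPairs

variable {Q : Subgroup S} {z a c b b' : S} (h : DualPairs Q z a c b b')
include h

theorem symm : DualPairs Q z b b' a c where
  z_ne := h.z_ne
  sq := ⟨h.sq.1, h.sq.2.2.2.1, h.sq.2.2.2.2, h.sq.2.1, h.sq.2.2.1⟩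
  mem := ⟨h.mem.1, h.mem.2.2.2.1, h.mem.2.2.2.2, h.mem.2.1, h.mem.2.2.1⟩
  gen := h.gen.trans (closure_mono (by rintro x (rfl | rfl | rfl | rfl | rfl) <;> simp))
  z_comm := ⟨h.z_comm.2.2.1, h.z_comm.2.2.2, h.z_comm.1, h.z_comm.2.1⟩
  ac := h.bb
  bb := h.ac
  ab := h.ab.symm
  ab' := by rw [h.cb, mul_assoc, h.sq.1, mul_one]
  cb := by rw [h.ab', mul_assoc, h.sq.1, mul_one]
  cb' := h.cb'.symm

/-- A noncentral displacement is not trivial. -/
theorem not_comm_ab' : ¬ Commute a b' := fun hc => h.z_ne (by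
  have h1 := h.ab'
  rw [hc.eq] at h1
  exact (mul_eq_left.1 h1.symm))

theorem not_comm_cb : ¬ Commute c b := fun hc => h.z_ne (by
  have h1 := h.cb
  rw [hc.eq] at h1
  exact (mul_eq_left.1 h1.symm))

end DualPairs

/-- Adjoining an involution normalising `H`. -/
theorem mem_adjoin {H : Subgroup S} {v x : S} (hv : v * v = 1) (hc : ∀ y ∈ H, v * y * v ∈ H)
    (hx : x ∈ H ⊔ zpowers v) : x ∈ H ∨ x * v ∈ H := by
  have hvi : v⁻¹ = v := inv_eq_of_mul_eq_one_right hv
  have hn : zpowers v ≤ normalizer (H : Set S) := by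
    refine zpowers_le.2 (mem_normalizer_iff.2 fun y => ⟨fun hy => ?_, fun hy => ?_⟩)
    · rw [hvi]; exact hc y hy
    · rw [hvi] at hy
      have h1 := hc _ hy
      rwa [show v * (v * y * v) * v = v * v * y * (v * v) by group, hv, one_mul, mul_one] at h1
  rw [← SetLike.mem_coe, coe_mul_of_right_le_normalizer_left H _ hn] at hx
  obtain ⟨y, hy, w, ⟨j, rfl⟩, rfl⟩ := hx
  rcases Int.even_or_odd j with ⟨i, rfl⟩ | ⟨i, rfl⟩
  · left
    simp only [← two_mul, zpow_mul, zpow_two, hv, one_zpow, mul_one]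
    exact hy
  · right
    simp only [zpow_add_one, zpow_mul, zpow_two, hv, one_zpow, one_mul, mul_assoc, mul_one]
    exact hy

/-- Conjugation by `v` maps a join of cyclic groups into itself. -/
theorem conj_mem_sup {H : Subgroup S} {v : S} (hv : v * v = 1) {T : Set S} (hT : H ≤ closure T)
    (hgen : ∀ t ∈ T, v * t * v ∈ H) : ∀ y ∈ H, v * y * v ∈ H := by
  have hvi : v⁻¹ = v := inv_eq_of_mul_eq_one_right hv
  have h1 : closure T ≤ H.comap (MulAut.conj v).toMonoidHom := by
    rw [closure_le]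
    intro t ht
    simpa [MulAut.conj_apply, hvi] using hgen t ht
  intro y hy
  simpa [MulAut.conj_apply, hvi] using h1 (hT hy)

theorem card_adjoin [Finite S] {H : Subgroup S} {v : S} (hv : v * v = 1)
    (hc : ∀ y ∈ H, v * y * v ∈ H) (hvn : v ∉ H) :
    Nat.card (H ⊔ zpowers v : Subgroup S) = 2 * Nat.card H := by
  have hidx : (H.subgroupOf (H ⊔ zpowers v)).index = 2 := by
    rw [index_eq_two_iff]
    refine ⟨⟨v, mem_sup_right (mem_zpowers v)⟩, fun x => ?_⟩
    show Xor ((x : S) * v ∈ H) ((x : S) ∈ H)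
    rcases mem_adjoin hv hc x.2 with h | h
    · exact Or.inr ⟨h, fun h' => hvn ((H.mul_mem_cancel_left h).1 h')⟩
    · exact Or.inl ⟨h, fun h' => hvn ((H.mul_mem_cancel_left h').1 h)⟩
  have h1 := (H.subgroupOf (H ⊔ zpowers v)).card_mul_index
  rw [Nat.card_congr (subgroupOfEquivOfLe (le_sup_left : H ≤ H ⊔ zpowers v)).toEquiv, hidx] at h1
  omega

namespace DualPairs

variable {Q : Subgroup S} {z a c b b' : S} (h : DualPairs Q z a c b b')
include h

/-- The subgroup `⟨z, a, c⟩`. -/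
theorem structure_facts :
    let T := zpowers z ⊔ zpowers a
    let A := T ⊔ zpowers c
    let B := A ⊔ zpowers b
    (∀ x ∈ T, x ∈ zpowers z ∨ x * a ∈ zpowers z) ∧ (∀ x ∈ A, x ∈ T ∨ x * c ∈ T) ∧
      (∀ x ∈ B, x ∈ A ∨ x * b ∈ A) ∧ (∀ x ∈ Q, x ∈ B ∨ x * b' ∈ B) := by
  intro T A B
  obtain ⟨hz, ha, hc, hb, hb'⟩ := h.sq
  have hTle : T ≤ closure {z, a} := by
    refine sup_le ?_ ?_ <;> exact zpowers_le.2 (Subgroup.subset_closure (by simp))
  have hAle : A ≤ closure {z, a, c} := by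
    refine sup_le (hTle.trans (closure_mono (by rintro x (rfl | rfl) <;> simp))) ?_
    exact zpowers_le.2 (Subgroup.subset_closure (by simp))
  have hBle : B ≤ closure {z, a, c, b} := by
    refine sup_le (hAle.trans (closure_mono (by rintro x (rfl | rfl | rfl) <;> simp))) ?_
    exact zpowers_le.2 (Subgroup.subset_closure (by simp))
  have hzT : z ∈ T := mem_sup_left (mem_zpowers z)
  have haT : a ∈ T := mem_sup_right (mem_zpowers a)
  have hzA : z ∈ A := mem_sup_left hzT
  have haA : a ∈ A := mem_sup_left haT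
  have hcA : c ∈ A := mem_sup_right (mem_zpowers c)
  have key : ∀ {v t : S}, v * v = 1 → Commute t v → v * t * v = t := fun hv hc => by
    rw [← hc.eq, mul_assoc, hv, mul_one]
  have h1 : ∀ y ∈ zpowers z, a * y * a ∈ zpowers z :=
    conj_mem_sup ha (T := {z}) (by rw [zpowers_eq_closure]) (by
      rintro t rfl; rw [key ha h.z_comm.1]; exact mem_zpowers _)
  have h2 : ∀ y ∈ T, c * y * c ∈ T := conj_mem_sup hc hTle (by
    rintro t (rfl | rfl)
    · rw [key hc h.z_comm.2.1]; exact hzT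
    · rw [key hc h.ac]; exact haT)
  have h3 : ∀ y ∈ A, b * y * b ∈ A := conj_mem_sup hb hAle (by
    rintro t (rfl | rfl | rfl)
    · rw [key hb h.z_comm.2.2.1]; exact hzA
    · rw [key hb h.ab]; exact haA
    · rw [mul_assoc, h.cb, ← mul_assoc, ← mul_assoc, hb, one_mul]; exact mul_mem hcA hzA)
  have h4 : ∀ y ∈ B, b' * y * b' ∈ B := conj_mem_sup hb' hBle (by
    rintro t (rfl | rfl | rfl | rfl)
    · rw [key hb' h.z_comm.2.2.2]; exact mem_sup_left hzA
    · rw [mul_assoc, h.ab', ← mul_assoc, ← mul_assoc, hb', one_mul]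
      exact mem_sup_left (mul_mem haA hzA)
    · rw [key hb' h.cb']; exact mem_sup_left hcA
    · rw [key hb' h.bb]; exact mem_sup_right (mem_zpowers _))
  refine ⟨fun x hx => mem_adjoin ha h1 hx, fun x hx => mem_adjoin hc h2 hx,
    fun x hx => mem_adjoin hb h3 hx, fun x hx => mem_adjoin hb' h4 ?_⟩
  refine (h.gen.trans ((closure_le _).2 ?_)) hx
  rintro t (rfl | rfl | rfl | rfl | rfl)
  exacts [mem_sup_left (mem_sup_left hzA), mem_sup_left (mem_sup_left haA),
    mem_sup_left (mem_sup_left hcA), mem_sup_left (mem_sup_right (mem_zpowers _)),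
    mem_sup_right (mem_zpowers _)]

theorem commute_A {x : S} (hx : x ∈ zpowers z ⊔ zpowers a ⊔ zpowers c) {v : S}
    (hz : Commute z v) (ha : Commute a v) (hc : Commute c v) : Commute x v := by
  have hle : zpowers z ⊔ zpowers a ⊔ zpowers c ≤ centralizer ({v} : Set S) := by
    refine sup_le (sup_le ?_ ?_) ?_ <;> refine zpowers_le.2 (mem_centralizer_singleton_iff.2 ?_)
    exacts [hz.eq, ha.eq, hc.eq]
  exact mem_centralizer_singleton_iff.1 (hle hx)

/-- An element of `Q` commuting with `z` and `a` lies in `⟨z, a, c, b⟩`. -/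
theorem mem_B_of_comm {y : S} (hy : y ∈ Q) (hya : Commute y a) :
    y ∈ zpowers z ⊔ zpowers a ⊔ zpowers c ⊔ zpowers b := by
  refine ((h.structure_facts).2.2.2 y hy).resolve_right fun hy' => h.not_comm_ab' ?_
  have hle : zpowers z ⊔ zpowers a ⊔ zpowers c ⊔ zpowers b ≤ centralizer ({a} : Set S) := by
    refine sup_le (sup_le (sup_le ?_ ?_) ?_) ?_ <;>
      refine zpowers_le.2 (mem_centralizer_singleton_iff.2 ?_)
    exacts [h.z_comm.1.eq, rfl, h.ac.symm.eq, h.ab.symm.eq]
  have h1 : Commute (y * b') a := mem_centralizer_singleton_iff.1 (hle hy')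
  have := hya.inv_left.mul_left h1
  rw [inv_mul_cancel_left] at this
  exact this.symm

/-- `C_Q(⟨z, a, c⟩) = ⟨z, a, c⟩`. -/
theorem mem_A_of_comm {y : S} (hy : y ∈ Q) (hya : Commute y a) (hyc : Commute y c) :
    y ∈ zpowers z ⊔ zpowers a ⊔ zpowers c := by
  refine ((h.structure_facts).2.2.1 y (h.mem_B_of_comm hy hya)).resolve_right fun hy' =>
    h.not_comm_cb ?_
  have h1 := h.commute_A hy' h.z_comm.2.1 h.ac (Commute.refl c)
  have := hyc.inv_left.mul_left h1
  rw [inv_mul_cancel_left] at this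
  exact this.symm

/-- An outer element centralising `⟨z, a, c⟩` moves `b` by `a`. -/
theorem outer_move (hC : centralizer (Q : Set S) ≤ Q) {x : S}
    (hxN : ∀ q ∈ Q, x⁻¹ * q * x ∈ Q) (hxQ : x ∉ Q) (hxz : Commute x z) (hxa : Commute x a)
    (hxc : Commute x c) : x⁻¹ * b * x = b * a ∨ x⁻¹ * b * x = b * a * z := by
  obtain ⟨hz, ha, hc, hb, hb'⟩ := h.sq
  obtain ⟨hzQ, haQ, hcQ, hbQ, hb'Q⟩ := h.mem
  have hfix : ∀ {w : S}, Commute x w → x⁻¹ * w * x = w := fun hw => by
    rw [mul_assoc, ← hw.eq, inv_mul_cancel_left]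
  have hconj : ∀ p q : S, x⁻¹ * (p * q) * x = (x⁻¹ * p * x) * (x⁻¹ * q * x) := fun p q => by group
  set y := x⁻¹ * b * x with hy
  set y' := x⁻¹ * b' * x with hy'
  have hyy : y * y = 1 := by rw [hy, ← hconj, hb]; group
  have hy'y' : y' * y' = 1 := by rw [hy', ← hconj, hb']; group
  have hya : a * y = y * a := by
    rw [hy, ← hfix hxa, ← hconj, ← hconj, h.ab.eq]
  have hy'c : c * y' = y' * c := by
    rw [hy', ← hfix hxc, ← hconj, ← hconj, h.cb'.eq]
  have hyc : c * y = y * c * z := by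
    rw [hy, ← hfix hxc, ← hfix hxz, ← hconj, ← hconj, ← hconj, h.cb]
  have hy'a : a * y' = y' * a * z := by
    rw [hy', ← hfix hxa, ← hfix hxz, ← hconj, ← hconj, ← hconj, h.ab']
  have hyy' : Commute y y' := by
    show y * y' = y' * y
    rw [hy, hy', ← hconj, ← hconj, h.bb.eq]
  -- `y = p * b`, `y' = p' * b'`
  have hzc : Commute z c := h.z_comm.2.1
  have hp : ∀ {Q' : Subgroup S} {z a c b b' y : S}, DualPairs Q' z a c b b' → y ∈ Q' →
      a * y = y * a → c * y = y * c * z → y * y = 1 →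
      y * b ∈ zpowers z ∨ y * b * a ∈ zpowers z := by
    intro Q' z a c b b' y h' hy hya hyc hyy
    have hyB := h'.mem_B_of_comm hy (show Commute y a from hya.symm)
    rcases h'.structure_facts.2.2.1 y hyB with h1 | h1
    · exfalso
      have h2 := h'.commute_A h1 h'.z_comm.2.1 h'.ac (Commute.refl c)
      rw [h2.eq] at hyc
      exact h'.z_ne (mul_eq_left.1 hyc.symm)
    have hcomm : ∀ {v w : S}, v * v = 1 → w * w = 1 → (v * w) * (v * w) = 1 → Commute v w := by
      intro v w hv hw hvw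
      calc v * w = (v * w)⁻¹ := (inv_eq_of_mul_eq_one_left hvw).symm
        _ = w⁻¹ * v⁻¹ := mul_inv_rev v w
        _ = w * v := by rw [inv_eq_of_mul_eq_one_left hv, inv_eq_of_mul_eq_one_left hw]
    obtain ⟨hz', ha', hc', hb'', -⟩ := h'.sq
    have hAA : ∀ v ∈ zpowers z ⊔ zpowers a ⊔ zpowers c, v * v = 1 := by
      intro v hv
      have hm : ∀ {H : Subgroup S} {g w : S}, g * g = 1 → Commute w g → w * g ∈ H →
          (∀ u ∈ H, u * u = 1) → w * w = 1 := by
        intro H g w hg hwg hw hH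
        have := hH _ hw
        rwa [hwg.symm.mul_mul_mul_comm, hg, mul_one] at this
      have hZ2 : ∀ u ∈ zpowers z, u * u = 1 := by
        rintro u ⟨j, rfl⟩
        show z ^ j * z ^ j = 1
        rw [← (Commute.refl z).mul_zpow, hz', one_zpow]
      have hT2 : ∀ u ∈ zpowers z ⊔ zpowers a, u * u = 1 := by
        intro u hu
        rcases h'.structure_facts.1 u hu with h3 | h3
        · exact hZ2 u h3
        · exact hm ha' (h'.commute_A (mem_sup_left hu) h'.z_comm.1 (Commute.refl a) h'.ac.symm)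
            h3 hZ2
      rcases h'.structure_facts.2.1 v hv with h3 | h3
      · exact hT2 v h3
      · exact hm hc' (h'.commute_A hv h'.z_comm.2.1 h'.ac (Commute.refl c)) h3 hT2
    have hpb : Commute (y * b) b := by
      refine hcomm (hAA _ h1) hb'' ?_
      rw [mul_assoc y b b, hb'', mul_one, hyy]
    rcases h'.structure_facts.2.1 _ h1 with h2 | h2
    · rcases h'.structure_facts.1 _ h2 with h3 | h3
      exacts [Or.inl h3, Or.inr h3]
    · exfalso
      have hle : zpowers z ⊔ zpowers a ≤ centralizer ({b} : Set S) := by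
        refine sup_le ?_ ?_ <;> refine zpowers_le.2 (mem_centralizer_singleton_iff.2 ?_)
        exacts [h'.z_comm.2.2.1.eq, h'.ab.eq]
      have h4 : Commute (y * b * c) b := mem_centralizer_singleton_iff.1 (hle h2)
      have h5 := hpb.inv_left.mul_left h4
      rw [inv_mul_cancel_left] at h5
      exact h'.not_comm_cb h5
  have hZ : ∀ w ∈ zpowers z, w = 1 ∨ w = z := by
    rintro w ⟨j, rfl⟩
    rcases Int.even_or_odd j with ⟨i, rfl⟩ | ⟨i, rfl⟩
    · left; show z ^ (i + i) = 1; rw [← two_mul, zpow_mul, zpow_two, hz, one_zpow]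
    · right; show z ^ (2 * i + 1) = z; rw [zpow_add_one, zpow_mul, zpow_two, hz, one_zpow, one_mul]
  rcases hp h (hxN b hbQ) hya hyc hyy with hyb | hyb
  swap
  · have hba : ∀ w : S, y * b * a = w → y = w * (b * a) := fun w hw => by
      rw [← hw, mul_assoc (y * b) a, ← mul_assoc a b a, h.ab.eq, mul_assoc b a a, ha, mul_one,
        mul_assoc y b b, hb, mul_one]
    rcases hZ _ hyb with h1 | h1
    · left; rw [hba _ h1, one_mul]
    · right
      rw [hba _ h1]
      exact (h.z_comm.2.2.1.mul_right h.z_comm.1).eq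
  exfalso
  obtain ⟨ez, hez, hyez⟩ : ∃ w ∈ zpowers z, y = w * b :=
    ⟨y * b, hyb, by rw [mul_assoc, hb, mul_one]⟩
  -- then `y'` is also trivial modulo `z`
  have hswap : DualPairs Q z c a b' b :=
    { z_ne := h.z_ne, sq := ⟨hz, hc, ha, hb', hb⟩, mem := ⟨hzQ, hcQ, haQ, hb'Q, hbQ⟩
      gen := h.gen.trans (closure_mono (by rintro w (rfl | rfl | rfl | rfl | rfl) <;> simp))
      z_comm := ⟨h.z_comm.2.1, h.z_comm.1, h.z_comm.2.2.2, h.z_comm.2.2.1⟩
      ac := h.ac.symm, bb := h.bb.symm, ab := h.cb', ab' := h.cb, cb := h.ab', cb' := h.ab }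
  have hzz : ∀ {v : S}, Commute z v → ∀ w ∈ zpowers z, Commute w v := fun hv w hw => by
    obtain ⟨j, rfl⟩ := hw; exact hv.zpow_left j
  obtain ⟨ez', hez', hyez'⟩ : ∃ w ∈ zpowers z, y' = w * b' := by
    refine ⟨y' * b', ?_, by rw [mul_assoc, hb', mul_one]⟩
    refine (hp hswap (hxN b' hb'Q) hy'c hy'a hy'y').resolve_right fun hy'b => h.not_comm_cb ?_
    -- `b` commutes with `y'`, hence with `c`
    have h1 : Commute b y' := by
      have h2 := (hzz (Commute.refl z) ez hez).symm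
      have h3 := hyy'
      rw [hyez] at h3
      have hzy' : Commute z y' := by
        show z * y' = y' * z
        rw [hy', ← hfix hxz, ← hconj, ← hconj, h.z_comm.2.2.2.eq]
      have h4 := (hzz hzy' ez hez).inv_left.mul_left h3
      rwa [inv_mul_cancel_left] at h4
    have h5 : Commute b (y' * b' * c) := ((hzz h.z_comm.2.2.1 _ hy'b)).symm
    have h6 := ((h1.mul_right h.bb).inv_right).mul_right h5
    rw [inv_mul_cancel_left] at h6
    exact h6.symm
  -- an element of `⟨a, c⟩` acts in the same way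
  obtain ⟨q, hq, hqa, hqc, hqb, hqb'⟩ : ∃ q ∈ Q, Commute q a ∧ Commute q c ∧
      q⁻¹ * b * q = y ∧ q⁻¹ * b' * q = y' := by
    have hai : a⁻¹ = a := inv_eq_of_mul_eq_one_left ha
    have hci : c⁻¹ = c := inv_eq_of_mul_eq_one_left hc
    have hab' : a⁻¹ * b' * a = z * b' := by
      rw [hai, h.ab', mul_assoc, h.z_comm.1.eq, ← mul_assoc, mul_assoc b' a a, ha, mul_one,
        h.z_comm.2.2.2.eq]
    have hab : a⁻¹ * b * a = b := by rw [mul_assoc, ← h.ab.eq, inv_mul_cancel_left]
    have hcb : c⁻¹ * b * c = z * b := by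
      rw [hci, h.cb, mul_assoc, h.z_comm.2.1.eq, ← mul_assoc, mul_assoc b c c, hc, mul_one,
        h.z_comm.2.2.1.eq]
    have hcb' : c⁻¹ * b' * c = b' := by rw [mul_assoc, ← h.cb'.eq, inv_mul_cancel_left]
    rcases hZ _ hez with h1 | h1 <;> rcases hZ _ hez' with h2 | h2 <;> rw [hyez, hyez', h1, h2]
    · exact ⟨1, one_mem _, Commute.one_left _, Commute.one_left _, by group, by group⟩
    · exact ⟨a, haQ, Commute.refl a, h.ac, by rw [hab, one_mul], hab'⟩
    · exact ⟨c, hcQ, h.ac.symm, Commute.refl c, hcb, by rw [hcb', one_mul]⟩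
    · refine ⟨a * c, mul_mem haQ hcQ, (Commute.refl a).mul_left h.ac.symm,
        h.ac.mul_left (Commute.refl c), ?_, ?_⟩
      · rw [show (a * c)⁻¹ * b * (a * c) = c⁻¹ * (a⁻¹ * b * a) * c by group, hab, hcb]
      · rw [show (a * c)⁻¹ * b' * (a * c) = c⁻¹ * (a⁻¹ * b' * a) * c by group, hab',
          show c⁻¹ * (z * b') * c = (c⁻¹ * z * c) * (c⁻¹ * b' * c) by group, hcb',
          mul_assoc c⁻¹, h.z_comm.2.1.eq, inv_mul_cancel_left]
  refine hxQ ?_
  have hcom : ∀ w ∈ ({z, a, c, b, b'} : Set S), Commute (x * q⁻¹) w := by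
    have hqz : Commute q z := by
      have hle : closure {z, a, c, b, b'} ≤ centralizer ({z} : Set S) := by
        rw [closure_le]
        rintro w (rfl | rfl | rfl | rfl | rfl) <;> rw [SetLike.mem_coe, mem_centralizer_singleton_iff]
        exacts [h.z_comm.1.symm.eq, h.z_comm.2.1.symm.eq, h.z_comm.2.2.1.symm.eq, h.z_comm.2.2.2.symm.eq]
      exact mem_centralizer_singleton_iff.1 (hle (h.gen hq))
    have hsame : ∀ {w : S}, q⁻¹ * w * q = x⁻¹ * w * x → Commute (x * q⁻¹) w := fun {w} hw => by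
      show x * q⁻¹ * w = w * (x * q⁻¹)
      calc x * q⁻¹ * w = x * (q⁻¹ * w * q) * q⁻¹ := by group
        _ = w * (x * q⁻¹) := by rw [hw]; group
    rintro w (rfl | rfl | rfl | rfl | rfl)
    exacts [hxz.mul_left hqz.inv_left, hxa.mul_left hqa.inv_left, hxc.mul_left hqc.inv_left,
      hsame hqb, hsame hqb']
  have hmem : x * q⁻¹ ∈ centralizer (Q : Set S) := by
    refine mem_centralizer_iff.2 fun w hw => ?_
    have hle : closure {z, a, c, b, b'} ≤ centralizer ({x * q⁻¹} : Set S) :=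
      (closure_le _).2 fun v hv => mem_centralizer_singleton_iff.2 (hcom v hv).symm.eq
    exact mem_centralizer_singleton_iff.1 (hle (h.gen hw))
  have := mul_mem (hC hmem) hq
  rwa [inv_mul_cancel_right] at this

/-- `⟨z, a, c⟩` is self-centralising unless it is centralised by an outer element. -/
theorem self_centralizing [Finite S] (hS : IsPGroup 2 S)
    (hno : ∀ x : S, (∀ q ∈ Q, x⁻¹ * q * x ∈ Q) → Commute x z → Commute x a → Commute x c → x ∈ Q) :
    let A := zpowers z ⊔ zpowers a ⊔ zpowers c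
    Nat.card A = 8 ∧ (∀ v ∈ A, v * v = 1) ∧ centralizer (A : Set S) = A := by
  intro A
  obtain ⟨hz, ha, hc, hb, hb'⟩ := h.sq
  have hAA : ∀ v ∈ A, Commute v z ∧ Commute v a ∧ Commute v c := fun v hv =>
    ⟨h.commute_A hv (Commute.refl z) h.z_comm.1.symm h.z_comm.2.1.symm,
      h.commute_A hv h.z_comm.1 (Commute.refl a) h.ac.symm,
      h.commute_A hv h.z_comm.2.1 h.ac (Commute.refl c)⟩
  have hcomm : ∀ u ∈ A, ∀ v ∈ A, Commute u v := fun u hu v hv =>
    (h.commute_A hv (hAA u hu).1.symm (hAA u hu).2.1.symm (hAA u hu).2.2.symm).symm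
  have hAQ : A ≤ Q := by
    refine sup_le (sup_le ?_ ?_) ?_ <;> refine zpowers_le.2 ?_
    exacts [h.mem.1, h.mem.2.1, h.mem.2.2.1]
  have haA : a ∈ A := mem_sup_left (mem_sup_right (mem_zpowers a))
  have hcA : c ∈ A := mem_sup_right (mem_zpowers c)
  have hzA : z ∈ A := mem_sup_left (mem_sup_left (mem_zpowers z))
  refine ⟨?_, ?_, le_antisymm ?_ fun u hu => mem_centralizer_iff.2 fun v hv => (hcomm v hv u hu).eq⟩
  · have hk : ∀ {H : Subgroup S} {v : S}, H ≤ A → v ∈ A → v * v = 1 → ∀ y ∈ H, v * y * v ∈ H :=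
      fun hH hv hvv y hy => by rw [(hcomm _ hv y (hH hy)).eq, mul_assoc, hvv, mul_one]; exact hy
    have haZ : a ∉ zpowers z := fun hz' => h.not_comm_ab' (by
      obtain ⟨j, hj⟩ := hz'; rw [← hj]; exact h.z_comm.2.2.2.zpow_left j)
    have hcT : c ∉ zpowers z ⊔ zpowers a := fun hT => h.not_comm_cb (by
      have hle : zpowers z ⊔ zpowers a ≤ centralizer ({b} : Set S) := by
        refine sup_le ?_ ?_ <;> refine zpowers_le.2 (mem_centralizer_singleton_iff.2 ?_)
        exacts [h.z_comm.2.2.1.eq, h.ab.eq]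
      exact mem_centralizer_singleton_iff.1 (hle hT))
    show Nat.card (zpowers z ⊔ zpowers a ⊔ zpowers c : Subgroup S) = 8
    rw [card_adjoin hc (hk le_sup_left hcA hc) hcT,
      card_adjoin ha (hk (le_sup_left.trans le_sup_left) haA ha) haZ, Nat.card_zpowers,
      orderOf_eq_prime (p := 2) (by rw [pow_two, hz]) h.z_ne]
  · intro v hv
    have hle : A ≤ ({ carrier := {w | w ∈ A ∧ w * w = 1}
                      one_mem' := ⟨one_mem _, one_mul 1⟩
                      mul_mem' := fun {p q} hp hq => ⟨mul_mem hp.1 hq.1, by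
                        rw [(hcomm q hq.1 p hp.1).mul_mul_mul_comm, hp.2, hq.2, one_mul]⟩
                      inv_mem' := fun {p} hp => ⟨inv_mem hp.1, by
                        rw [← mul_inv_rev, hp.2, inv_one]⟩ } : Subgroup S) := by
      refine sup_le (sup_le ?_ ?_) ?_ <;> refine zpowers_le.2 ⟨?_, ?_⟩
      exacts [hzA, hz, haA, ha, hcA, hc]
    exact (hle hv).2
  · set C := centralizer (A : Set S) with hCdef
    have hCQ : ∀ u ∈ C, u ∈ Q → u ∈ A := fun u hu hq => h.mem_A_of_comm hq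
      (mem_centralizer_iff.1 hu a haA).symm (mem_centralizer_iff.1 hu c hcA).symm
    have hnormA : ∀ q ∈ Q, ∀ v ∈ A, q * v * q⁻¹ ∈ A := by
      intro q hq v hv
      have hle : closure {z, a, c, b, b'} ≤ normalizer (A : Set S) := by
        rw [closure_le]
        rintro w (e | e | e | e | e) <;> rw [SetLike.mem_coe, e]
        exacts [le_normalizer hzA, le_normalizer haA, le_normalizer hcA,
          mem_normalizer_iff.2 fun y => by
            have hbi : b⁻¹ = b := inv_eq_of_mul_eq_one_left hb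
            have hcj : ∀ y ∈ A, b * y * b ∈ A :=
              conj_mem_sup hb (T := {z, a, c}) (by
                refine sup_le (sup_le ?_ ?_) ?_ <;>
                  exact zpowers_le.2 (Subgroup.subset_closure (by simp))) (by
                rintro t (rfl | rfl | rfl)
                · rw [← h.z_comm.2.2.1.eq, mul_assoc, hb, mul_one]; exact hzA
                · rw [← h.ab.eq, mul_assoc, hb, mul_one]; exact haA
                · rw [mul_assoc, h.cb, ← mul_assoc, ← mul_assoc, hb, one_mul]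
                  exact mul_mem hcA hzA)
            rw [hbi]
            refine ⟨hcj y, fun hy => ?_⟩
            have h1 := hcj _ hy
            rwa [show b * (b * y * b) * b = b * b * y * (b * b) by group, hb, one_mul, mul_one] at h1,
          mem_normalizer_iff.2 fun y => by
            have hbi : b'⁻¹ = b' := inv_eq_of_mul_eq_one_left hb'
            have hcj : ∀ y ∈ A, b' * y * b' ∈ A :=
              conj_mem_sup hb' (T := {z, a, c}) (by
                refine sup_le (sup_le ?_ ?_) ?_ <;>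
                  exact zpowers_le.2 (Subgroup.subset_closure (by simp))) (by
                rintro t (rfl | rfl | rfl)
                · rw [← h.z_comm.2.2.2.eq, mul_assoc, hb', mul_one]; exact hzA
                · rw [mul_assoc, h.ab', ← mul_assoc, ← mul_assoc, hb', one_mul]
                  exact mul_mem haA hzA
                · rw [← h.cb'.eq, mul_assoc, hb', mul_one]; exact hcA)
            rw [hbi]
            refine ⟨hcj y, fun hy => ?_⟩
            have h1 := hcj _ hy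
            rwa [show b' * (b' * y * b') * b' = b' * b' * y * (b' * b') by group, hb', one_mul,
              mul_one] at h1]
      exact (mem_normalizer_iff.1 (hle (h.gen hq)) v).1 hv
    have hQC : Q ≤ normalizer (C : Set S) := by
      intro q hq
      have hiff : ∀ q ∈ Q, ∀ u ∈ C, q * u * q⁻¹ ∈ C := fun q hq u hu =>
        mem_centralizer_iff.2 fun v hv => by
          have hv' := hnormA q⁻¹ (inv_mem hq) v hv
          rw [inv_inv] at hv'
          have h1 := mem_centralizer_iff.1 hu _ hv'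
          calc v * (q * u * q⁻¹) = q * ((q⁻¹ * v * q) * u) * q⁻¹ := by group
            _ = q * u * q⁻¹ * v := by rw [h1]; group
      refine mem_normalizer_iff.2 fun u => ⟨hiff q hq u, fun hu => ?_⟩
      have h1 := hiff q⁻¹ (inv_mem hq) _ hu
      rwa [show q⁻¹ * (q * u * q⁻¹) * q⁻¹⁻¹ = u by group] at h1
    set K := C ⊔ Q with hK
    intro u hu
    by_contra huA
    haveI : Fact (Nat.Prime 2) := ⟨Nat.prime_two⟩
    haveI := (hS.to_subgroup K).isNilpotent
    have hlt : Q.subgroupOf K < ⊤ := by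
      refine lt_top_iff_ne_top.2 fun htop => huA (hCQ u hu ?_)
      have h1 : (⟨u, mem_sup_left hu⟩ : K) ∈ Q.subgroupOf K := htop ▸ mem_top _
      exact h1
    obtain ⟨k, hk, hkQ⟩ :=
      SetLike.exists_of_lt (Group.normalizerCondition_of_isNilpotent (Q.subgroupOf K) hlt)
    have hkmem : (k : S) ∈ ((C ⊔ Q : Subgroup S) : Set S) := k.2
    rw [coe_mul_of_right_le_normalizer_left C Q hQC] at hkmem
    obtain ⟨x, hx, q, hq, hxq⟩ := hkmem
    have hxN : ∀ r ∈ Q, x⁻¹ * r * x ∈ Q := by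
      intro r hr
      have h1 : k⁻¹ * ⟨r, mem_sup_right hr⟩ * k ∈ Q.subgroupOf K := by
        have h2 := (mem_normalizer_iff.1 ((normalizer _).inv_mem hk) ⟨r, mem_sup_right hr⟩).1 hr
        rwa [inv_inv] at h2
      have h3 : (k : S)⁻¹ * r * k ∈ Q := h1
      rw [← hxq] at h3
      have h4 := mul_mem (mul_mem hq h3) (inv_mem hq)
      rwa [show q * ((x * q)⁻¹ * r * (x * q)) * q⁻¹ = x⁻¹ * r * x by group] at h4
    refine hkQ ?_
    show (k : S) ∈ Q
    rw [← hxq]
    exact mul_mem (hno x hxN (mem_centralizer_iff.1 hx z hzA).symm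
      (mem_centralizer_iff.1 hx a haA).symm (mem_centralizer_iff.1 hx c hcA).symm) hq

/-- The sectional bound. -/
theorem sectionalRank_le_four [Finite S] (hS : IsPGroup 2 S)
    (hC : centralizer (Q : Set S) ≤ Q) : Cfsg.SectionalPRankLE 2 4 S := by
  by_cases h₁ : ∀ x : S, (∀ q ∈ Q, x⁻¹ * q * x ∈ Q) → Commute x z → Commute x a → Commute x c →
      x ∈ Q
  · obtain ⟨hc, hs, hA⟩ := h.self_centralizing hS h₁
    exact HaradaEight.sectionalRank_le_four hS hc hs hA
  by_cases h₂ : ∀ x : S, (∀ q ∈ Q, x⁻¹ * q * x ∈ Q) → Commute x z → Commute x b → Commute x b' →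
      x ∈ Q
  · obtain ⟨hc, hs, hA⟩ := h.symm.self_centralizing hS h₂
    exact HaradaEight.sectionalRank_le_four hS hc hs hA
  exfalso
  push Not at h₁ h₂
  obtain ⟨x₁, hN₁, hz₁, ha₁, hc₁, hQ₁⟩ := h₁
  obtain ⟨x₂, hN₂, hz₂, hb₂, hb₂', hQ₂⟩ := h₂
  have hm₁ := h.outer_move hC hN₁ hQ₁ hz₁ ha₁ hc₁
  have hm₂ := h.symm.outer_move hC hN₂ hQ₂ hz₂ hb₂ hb₂'
  obtain ⟨hz, ha, hc, hb, hb'⟩ := h.sq
  have hza := h.z_comm.1
  have hzb := h.z_comm.2.2.1
  -- classes modulo `z`
  let R : S → S → Prop := fun p q => p = q ∨ p = q * z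
  have hconjR : ∀ g, Commute g z → ∀ p q, R p q → R (g⁻¹ * p * g) (g⁻¹ * q * g) := by
    intro g hg p q hpq
    rcases hpq with rfl | rfl
    · exact Or.inl rfl
    · right
      calc g⁻¹ * (q * z) * g = g⁻¹ * q * (z * g) := by group
        _ = g⁻¹ * q * g * z := by rw [← hg.eq]; group
  have hRtrans : ∀ p q r, R p q → R q r → R p r := by
    rintro p q r (rfl | rfl) (rfl | rfl)
    · exact Or.inl rfl
    · exact Or.inr rfl
    · exact Or.inr rfl
    · exact Or.inl (by rw [mul_assoc, hz, mul_one])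
  have hRmul : ∀ p p' q q', Commute z q' → R p p' → R q q' → R (p * q) (p' * q') := by
    rintro p p' q q' hzq (rfl | rfl) (rfl | rfl)
    · exact Or.inl rfl
    · exact Or.inr (mul_assoc _ _ _).symm
    · exact Or.inr (by rw [mul_assoc, hzq.eq, mul_assoc])
    · exact Or.inl (by
        rw [mul_assoc p' z, ← mul_assoc z q' z, hzq.eq, mul_assoc q' z z, hz, mul_one])
  have hfix : ∀ {g w : S}, Commute g w → g⁻¹ * w * g = w := fun hw => by
    rw [mul_assoc, ← hw.eq, inv_mul_cancel_left]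
  set w := x₁ * x₂ with hw
  have hwz : Commute w z := hz₁.mul_left hz₂
  have hwconj : ∀ p, w⁻¹ * p * w = x₂⁻¹ * (x₁⁻¹ * p * x₁) * x₂ := fun p => by rw [hw]; group
  -- `a ↦ a b`, `b ↦ a`, `a b ↦ b`
  have hwa : R (w⁻¹ * a * w) (a * b) := by
    rw [hwconj, hfix ha₁]
    exact hm₂
  have hwb : R (w⁻¹ * b * w) a := by
    rw [hwconj]
    refine hRtrans _ (x₂⁻¹ * (b * a) * x₂) _ (hconjR x₂ hz₂ _ _ hm₁) ?_
    rw [show x₂⁻¹ * (b * a) * x₂ = (x₂⁻¹ * b * x₂) * (x₂⁻¹ * a * x₂) by group, hfix hb₂]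
    have := hRmul b b _ _ (hza.mul_right hzb) (Or.inl rfl) hm₂
    rwa [h.ab.eq, ← mul_assoc b b a, hb, one_mul] at this
  have hwab : R (w⁻¹ * (a * b) * w) b := by
    rw [show w⁻¹ * (a * b) * w = (w⁻¹ * a * w) * (w⁻¹ * b * w) by group]
    have := hRmul _ _ _ _ hza hwa hwb
    rwa [h.ab.eq, mul_assoc b a a, ha, mul_one] at this
  have h3 : R ((w ^ 3)⁻¹ * a * w ^ 3) a := by
    rw [show (w ^ 3)⁻¹ * a * w ^ 3 = w⁻¹ * (w⁻¹ * (w⁻¹ * a * w) * w) * w by rw [pow_three]; group]
    exact hRtrans _ _ _ (hconjR w hwz _ _ (hRtrans _ _ _ (hconjR w hwz _ _ hwa) hwab)) hwb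
  have hpow : ∀ m : ℕ, R (((w ^ 3) ^ m)⁻¹ * a * (w ^ 3) ^ m) a := by
    intro m
    induction m with
    | zero => left; group
    | succ m ih =>
      rw [pow_succ, show ((w ^ 3) ^ m * w ^ 3)⁻¹ * a * ((w ^ 3) ^ m * w ^ 3) =
        (w ^ 3)⁻¹ * (((w ^ 3) ^ m)⁻¹ * a * (w ^ 3) ^ m) * w ^ 3 by group]
      exact hRtrans _ _ _ (hconjR _ (hwz.pow_left 3) _ _ ih) h3
  obtain ⟨k, hk⟩ := IsPGroup.iff_orderOf.1 hS w
  obtain ⟨m, hm⟩ := exists_pow_eq_self_of_coprime (n := 3) (x := w) (by
    rw [hk]; exact Nat.Coprime.pow_right k (by norm_num))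
  have hfin := hpow m
  rw [hm] at hfin
  have hbz : b ≠ 1 ∧ b ≠ z := by
    constructor
    · intro hb1; exact h.not_comm_cb (hb1 ▸ Commute.one_right c)
    · intro hb1; exact h.not_comm_cb (hb1 ▸ h.z_comm.2.1.symm)
  rcases hfin with e | e <;> rcases hwa with e' | e' <;> rw [e'] at e
  · exact hbz.1 (mul_eq_left.1 e)
  · rw [mul_assoc] at e
    have := mul_eq_left.1 e
    exact hbz.2 (mul_right_cancel (b := z) (by rw [this, hz]))
  · exact hbz.2 (mul_left_cancel e)
  · exact hbz.1 (mul_left_cancel (mul_right_cancel e |>.trans (mul_one a).symm))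

end DualPairs

end Cfsg.Agent.Lib.HaradaEight
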